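import Cfsg.Agent.Lib.Chev.D43Mult.Torus
import Cfsg.Agent.Lib.Schur.LiftComm

/-!
The six orbit groups of the unipotent part of a triality twisted group, inside the fixed group.
-/

set_option autoImplicit false
set_option maxRecDepth 100000

namespace CfsgLib.Chev.D43Mult

open Cfsg.Lie Matrix CfsgLib.Chev CfsgLib.Chev.D43 CfsgLib.Chev.OrdList CfsgLib.Schur
open scoped commutatorElement

variable {K : Type*} [Field K] {q : ℕ} {σ : K →+* K}

local notation "g₄" => stdD4.good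

/-- where the blocks start -/
def kI (i : ℕ) : ℕ := [0, 3, 4, 7, 10, 11].getD i 12

/-- the central series -/
noncomputable def Ug (σ : K →+* K) (i : ℕ) : Subgroup ↥(tw σ).fix :=
  (UL K g₄ (ordL.drop (kI i))).subgroupOf (tw σ).fix

/-- a torus element of the fixed group -/
noncomputable def tq (σ : K →+* K) (hinv : ∀ x, σ (σ (σ x)) = x) (u c : Kˣ) (hu : σ (u : K) = u) :
    ↥(tw σ).fix :=
  ⟨tor chevD4 auxD4 (cv σ u c), by
    have h : cv σ u c ∈ (tw σ).thetaFix := (thetaFix_iff _).2 ⟨hinv _, hu, rfl, rfl⟩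
    rw [Twist.tor_mem_fix_iff, (Twist.mem_thetaFix _).1 h]⟩

/-- an orbit element in the fixed group -/
noncomputable def mT [Fintype K] (hσ : ∀ x, σ x = x ^ q) (hK : Fintype.card K = q ^ 3) {o : List (ℕ × ℤ)}
    {L : List ℕ} (hc : triChk o L = true) (t : K) : ↥(tw σ).fix :=
  ⟨M σ o t, M_fix hσ hK hc t⟩

/-- a root element of a fixed root, in the fixed group -/
noncomputable def mO (σ : K →+* K) (r : ℕ) (t : K) : ↥(tw σ).fix :=
  @dite _ (xG g₄ r t ∈ (tw σ).fix) (Classical.propDecidable _) (fun h => ⟨_, h⟩) (fun _ => 1)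

theorem mO_val {r : ℕ} {L : List ℕ} (hc : oneChk r L = true) {t : K} (ht : σ t = t) :
    ((mO σ r t : ↥(tw σ).fix) : GL chevD4.Idx K) = xG g₄ r t := by
  simp only [oneChk, Bool.and_eq_true, decide_eq_true_eq] at hc
  rw [mO, dif_pos (fix_root hc.1.1.1.1 hc.1.1.1.2.1 hc.1.1.1.2.2.1 ht)]

theorem blocks_chk : ∀ i < 6, commChk chevD4 auxD4 ordL (ordL.drop (kI i)) (ordL.drop (kI (i + 1))) = true ∧
    ∀ r ∈ ordL.drop (kI (i + 1)), r ∈ ordL.drop (kI i) := by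
  decide +kernel

theorem Ug_zero (σ : K →+* K) : Ug σ 0 = (chevD4.posUnipotent K).subgroupOf (tw σ).fix := by
  rw [Ug, ← UL_ordL]
  rfl

theorem Ug_six (σ : K →+* K) : Ug σ 6 = ⊥ := by
  rw [eq_bot_iff]
  intro y hy
  have h : (y : GL chevD4.Idx K) ∈ UL K g₄ (ordL.drop 12) := hy
  rw [show ordL.drop 12 = [] from rfl, UL_nil, Subgroup.mem_bot] at h
  exact Subtype.ext h

theorem Ug_anti {i : ℕ} (hi : i < 6) : Ug σ (i + 1) ≤ Ug σ i := fun _ hy =>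
  UL_mono g₄ (blocks_chk i hi).2 hy

theorem Ug_le_zero : ∀ {i : ℕ}, i ≤ 6 → Ug σ i ≤ Ug σ 0
  | 0, _ => le_rfl
  | _ + 1, hi => (Ug_anti (by omega)).trans (Ug_le_zero (by omega))

theorem Ug_comm {i : ℕ} (hi : i < 6) : ∀ x ∈ Ug σ 0, ∀ y ∈ Ug σ i, ⁅x, y⁆ ∈ Ug σ (i + 1) :=
  fun x hx y hy => by
    show ((⁅x, y⁆ : ↥(tw σ).fix) : GL chevD4.Idx K) ∈ UL K g₄ (ordL.drop (kI (i + 1)))
    rw [show ((⁅x, y⁆ : ↥(tw σ).fix) : GL chevD4.Idx K) = ⁅(x : GL chevD4.Idx K), (y : GL chevD4.Idx K)⁆ from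
      map_commutatorElement (tw σ).fix.subtype x y]
    exact comm_UL stdD4 (blocks_chk i hi).1 hx hy

theorem Ug_norm {i : ℕ} (hi : i ≤ 6) : ∀ x ∈ Ug σ 0, ∀ y ∈ Ug σ i, x * y * x⁻¹ ∈ Ug σ i := fun x hx y hy => by
  rcases Nat.lt_or_eq_of_le hi with h | rfl
  · have h1 := Ug_anti h (Ug_comm h x hx y hy)
    have h2 := mul_mem h1 hy
    rwa [commutatorElement_def, inv_mul_cancel_right] at h2
  · rw [Ug_six, Subgroup.mem_bot] at hy ⊢
    rw [hy]; group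

theorem Ug_tor (i : ℕ) (hinv : ∀ x, σ (σ (σ x)) = x) {u c : Kˣ} (hu : σ (u : K) = u) :
    ∀ y ∈ Ug σ i, tq σ hinv u c hu * y * (tq σ hinv u c hu)⁻¹ ∈ Ug σ i := fun y hy => by
  show ((tq σ hinv u c hu * y * (tq σ hinv u c hu)⁻¹ : ↥(tw σ).fix) : GL chevD4.Idx K) ∈ UL K g₄ _
  push_cast
  refine conj_UL (fun r hr t => ?_) hy
  have hr' : r < chevD4.nroots :=
    (posRoots_mem.1 ((ord_ok.2 r).1 (List.mem_of_mem_drop hr))).1
  rw [show ((tq σ hinv u c hu : ↥(tw σ).fix) : GL chevD4.Idx K) = tor chevD4 auxD4 (cv σ u c) from rfl,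
    tor_conj_xG g₄ _ hr']
  exact xG_mem_UL g₄ hr _

/-- one factor of the series -/
structure Block (σ : K →+* K) (hinv : ∀ x, σ (σ (σ x)) = x) (i a : ℕ) (S : K → Prop)
    (m : K → ↥(tw σ).fix) : Prop where
  lt : i < 6
  zero : S 0
  sub : ∀ s t, S s → S t → S (s - t)
  scale : ∀ (u c : Kˣ), σ (u : K) = u → ∀ s, S s → S (wt σ u c a * s)
  mem : ∀ s, S s → m s ∈ Ug σ i
  cover : ∀ v ∈ Ug σ i, ∃ s, S s ∧ (m s)⁻¹ * v ∈ Ug σ (i + 1)
  add : ∀ s t, S s → S t → m (s + t) = m s * m t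
  conj : ∀ (u c : Kˣ) (hu : σ (u : K) = u), ∀ s, S s →
    tq σ hinv u c hu * m s * (tq σ hinv u c hu)⁻¹ = m (wt σ u c a * s)
  inj : ∀ s, S s → m s ∈ Ug σ (i + 1) → s = 0

variable [Fintype K]

theorem block_tri (hσ : ∀ x, σ x = x ^ q) (hK : Fintype.card K = q ^ 3) {i a b c : ℕ} {s₁ s₂ s₃ : ℤ}
    (hi : i < 6) (hl : ordL.drop (kI i) = a :: b :: c :: ordL.drop (kI (i + 1)))
    (hc : triChk [(a, s₁), (b, s₂), (c, s₃)] (ordL.drop (kI (i + 1))) = true)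
    (hc0 : triChk [(a, s₁), (b, s₂), (c, s₃)] [] = true) :
    Block σ (invol hσ hK) i a (fun _ => True) (mT hσ hK hc0) := by
  refine ⟨hi, trivial, fun _ _ _ _ => trivial, fun _ _ _ _ _ => trivial, fun s _ => ?_, fun v hv => ?_,
    fun s t _ _ => Subtype.ext (M_add hc0 s t), fun u d hu s _ => ?_, fun s _ hs => ?_⟩
  · refine Subgroup.mem_subgroupOf.2 ?_
    rw [hl]
    exact UL_mono g₄ (fun r hr => by
      simp only [List.mem_cons, List.not_mem_nil, or_false] at hr ⊢; tauto) (M_mem_UL (σ := σ) s)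
  · have hv' : (v : GL chevD4.Idx K) ∈ UL K g₄ (ordL.drop (kI i)) := hv
    rw [hl] at hv'
    obtain ⟨s, w, hw, e⟩ := tri_coord hσ hK hc hv' v.2
    refine ⟨s, trivial, Subgroup.mem_subgroupOf.2 ?_⟩
    push_cast
    rw [e, show ((mT hσ hK hc0 s : ↥(tw σ).fix) : GL chevD4.Idx K) = M σ [(a, s₁), (b, s₂), (c, s₃)] s from rfl,
      inv_mul_cancel_left]
    exact hw
  · exact Subtype.ext (tor_conj_M hσ hK hc0 hu d s)
  · obtain ⟨v, hv, e⟩ := tri_M (σ := σ) hc s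
    obtain ⟨hsep, ha, hn, hL, -⟩ := tri_facts hc
    have h1 : M σ [(a, s₁), (b, s₂), (c, s₃)] s ∈ UL K g₄ (ordL.drop (kI (i + 1))) := hs
    exact head_eq hsep ha hn hL hv
      (UL_mono g₄ (fun r hr => List.mem_cons_of_mem _ (List.mem_cons_of_mem _ hr)) h1)
      (show xG g₄ a s * v = xG g₄ a 0 * M σ [(a, s₁), (b, s₂), (c, s₃)] s by rw [xG_zero, one_mul, e])

theorem block_one (hσ : ∀ x, σ x = x ^ q) (hK : Fintype.card K = q ^ 3) {i r : ℕ}
    (hi : i < 6) (hl : ordL.drop (kI i) = r :: ordL.drop (kI (i + 1)))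
    (hc : oneChk r (ordL.drop (kI (i + 1))) = true)
    (hw : ∀ (u c : Kˣ), σ (u : K) = u → σ (wt σ u c r) = wt σ u c r) :
    Block σ (invol hσ hK) i r (fun t => σ t = t) (mO σ r) := by
  have hc' := hc
  simp only [oneChk, Bool.and_eq_true, decide_eq_true_eq] at hc'
  obtain ⟨⟨⟨⟨hr, -, -, hp, hn⟩, -⟩, hsep⟩, hL⟩ := hc'
  refine ⟨hi, map_zero σ, fun s t hs ht => by rw [map_sub, hs, ht],
    fun u c hu s hs => by rw [map_mul, hw u c hu, hs], fun s hs => ?_, fun v hv => ?_,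
    fun s t hs ht => Subtype.ext ?_, fun u d hu s hs => Subtype.ext ?_, fun s hs h => ?_⟩
  · refine Subgroup.mem_subgroupOf.2 ?_
    rw [mO_val hc hs, hl]
    exact xG_mem_UL g₄ List.mem_cons_self _
  · have hv' : (v : GL chevD4.Idx K) ∈ UL K g₄ (ordL.drop (kI i)) := hv
    rw [hl] at hv'
    obtain ⟨t, ht, w, hw', e⟩ := one_coord hc hv' v.2
    refine ⟨t, ht, Subgroup.mem_subgroupOf.2 ?_⟩
    push_cast
    rw [mO_val hc ht, e, inv_mul_cancel_left]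
    exact hw'
  · push_cast
    rw [mO_val hc hs, mO_val hc ht, mO_val hc (by rw [map_add, hs, ht]), xG_add]
  · push_cast
    rw [mO_val hc hs, mO_val hc (by rw [map_mul, hw u d hu, hs]),
      show ((tq σ (invol hσ hK) u d hu : ↥(tw σ).fix) : GL chevD4.Idx K) = tor chevD4 auxD4 (cv σ u d) from rfl,
      tor_conj_xG g₄ _ hr]
  · have h1 : ((mO σ r s : ↥(tw σ).fix) : GL chevD4.Idx K) ∈ UL K g₄ (ordL.drop (kI (i + 1))) := h
    rw [mO_val hc hs] at h1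
    exact eq_zero_of_mem stdD4 hsep hp hn h1 fun x hx => (hL x hx).1

theorem wt_fixed (hσ : ∀ x, σ x = x ^ q) (hK : Fintype.card K = q ^ 3) {u c : Kˣ} (hu : σ (u : K) = u) :
    σ (wt σ u c 14) = wt σ u c 14 ∧ σ (wt σ u c 22) = wt σ u c 22 ∧ σ (wt σ u c 23) = wt σ u c 23 := by
  have hinv := invol hσ hK
  rw [wt_14, wt_22, wt_23]
  refine ⟨?_, ?_, hu⟩ <;>
    simp only [map_div₀, map_mul, map_pow, hu, hinv] <;> ring

theorem block0 (hσ : ∀ x, σ x = x ^ q) (hK : Fintype.card K = q ^ 3) :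
    Block σ (invol hσ hK) 0 18 (fun _ => True) (mT hσ hK chk_A.2) :=
  block_tri hσ hK (i := 0) (a := 18) (b := 13) (c := 12) (by norm_num) rfl chk_A.1 chk_A.2

theorem block1 (hσ : ∀ x, σ x = x ^ q) (hK : Fintype.card K = q ^ 3) :
    Block σ (invol hσ hK) 1 14 (fun t => σ t = t) (mO σ 14) :=
  block_one hσ hK (by norm_num) rfl chk_one.1 fun _ _ hu => (wt_fixed hσ hK hu).1

theorem block2 (hσ : ∀ x, σ x = x ^ q) (hK : Fintype.card K = q ^ 3) :
    Block σ (invol hσ hK) 2 19 (fun _ => True) (mT hσ hK chk_B.2) :=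
  block_tri hσ hK (i := 2) (a := 19) (b := 16) (c := 15) (by norm_num) rfl chk_B.1 chk_B.2

theorem block3 (hσ : ∀ x, σ x = x ^ q) (hK : Fintype.card K = q ^ 3) :
    Block σ (invol hσ hK) 3 17 (fun _ => True) (mT hσ hK chk_D.2) :=
  block_tri hσ hK (i := 3) (a := 17) (b := 20) (c := 21) (by norm_num) rfl chk_D.1 chk_D.2

theorem block4 (hσ : ∀ x, σ x = x ^ q) (hK : Fintype.card K = q ^ 3) :
    Block σ (invol hσ hK) 4 22 (fun t => σ t = t) (mO σ 22) :=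
  block_one hσ hK (by norm_num) rfl chk_one.2.1 fun _ _ hu => (wt_fixed hσ hK hu).2.1

theorem block5 (hσ : ∀ x, σ x = x ^ q) (hK : Fintype.card K = q ^ 3) :
    Block σ (invol hσ hK) 5 23 (fun t => σ t = t) (mO σ 23) :=
  block_one hσ hK (by norm_num) rfl chk_one.2.2.1 fun _ _ hu => (wt_fixed hσ hK hu).2.2

end CfsgLib.Chev.D43Mult
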