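import Cfsg.Agent.Lib.Chev.D43Mult.Blocks
import Cfsg.Agent.Lib.Schur.ChainSplit

/-!
Central extensions over the unipotent part of a triality twisted group over more than two elements.
-/

set_option autoImplicit false
set_option maxRecDepth 100000

namespace CfsgLib.Chev.D43Mult

open Cfsg.Lie Matrix CfsgLib.Chev CfsgLib.Chev.D43 CfsgLib.Chev.OrdList CfsgLib.Schur
open CfsgLib.Schur.LiftComm CfsgLib.Schur.ChainSplit
open scoped commutatorElement

variable {K : Type*} [Field K] {q : ℕ} {σ : K →+* K} {hinv : ∀ x, σ (σ (σ x)) = x}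
variable {i a : ℕ} {S : K → Prop} {m : K → ↥(tw σ).fix}

local notation "g₄" => stdD4.good

theorem Block.split (B : Block σ hinv i a S m) {v : ↥(tw σ).fix} (hv : v ∈ Ug σ i) :
    ∃ s, S s ∧ ∃ w ∈ Ug σ (i + 1), v = m s * w := by
  obtain ⟨s, hs, hw⟩ := B.cover v hv
  exact ⟨s, hs, _, hw, (mul_inv_cancel_left _ _).symm⟩

theorem Block.map_zero (B : Block σ hinv i a S m) : m 0 = 1 := by
  have h := B.add 0 0 B.zero B.zero
  rw [add_zero] at h
  exact left_eq_mul.1 h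

theorem Block.twist (B : Block σ hinv i a S m) {u c : Kˣ} (hu : σ (u : K) = u) {s : K} (hs : S s) :
    ⁅tq σ hinv u c hu, m s⁆ = m (wt σ u c a * s - s) := by
  rw [commutatorElement_def, B.conj u c hu s hs, mul_inv_eq_iff_eq_mul,
    ← B.add _ _ (B.sub _ _ (B.scale u c hu s hs) hs) hs, sub_add_cancel]

theorem Block.comm_mem (B : Block σ hinv i a S m) {u c : Kˣ} (hu : σ (u : K) = u) {s : K} (hs : S s)
    {w : ↥(tw σ).fix} (hw : w ∈ Ug σ (i + 1)) :
    ⁅tq σ hinv u c hu, m s * w⁆ ∈ Ug σ (i + 1) ↔ m (wt σ u c a * s - s) ∈ Ug σ (i + 1) := by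
  set t := tq σ hinv u c hu
  have h1 : ⁅t, m s * w⁆ = ⁅t, m s⁆ * (m s * ⁅t, w⁆ * (m s)⁻¹) := by
    simp only [commutatorElement_def]; group
  have h2 : m s * ⁅t, w⁆ * (m s)⁻¹ ∈ Ug σ (i + 1) := by
    refine Ug_norm (by have := B.lt; omega) _ (Ug_le_zero B.lt.le (B.mem s hs)) _ ?_
    rw [commutatorElement_def]
    exact mul_mem (Ug_tor _ hinv hu w hw) (inv_mem hw)
  rw [h1, Subgroup.mul_mem_cancel_right _ h2, B.twist hu hs]

theorem Block.free (B : Block σ hinv i a S m) {u c : Kˣ} (hu : σ (u : K) = u) (hne : wt σ u c a ≠ 1) :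
    Free (Ug σ i) (Ug σ (i + 1)) (tq σ hinv u c hu) := by
  intro v hv h
  obtain ⟨s, hs, w, hw, rfl⟩ := B.split hv
  rw [B.comm_mem hu hs hw] at h
  have h' := B.inj _ (B.sub _ _ (B.scale u c hu s hs) hs) h
  rw [← sub_one_mul, mul_eq_zero, sub_eq_zero] at h'
  rw [h'.resolve_left hne, B.map_zero, one_mul]
  exact hw

theorem Block.triv (B : Block σ hinv i a S m) {u c : Kˣ} (hu : σ (u : K) = u) (he : wt σ u c a = 1) :
    Triv (Ug σ i) (Ug σ (i + 1)) (tq σ hinv u c hu) := by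
  intro v hv
  obtain ⟨s, hs, w, hw, rfl⟩ := B.split hv
  rw [B.comm_mem hu hs hw, he, one_mul, sub_self, B.map_zero]
  exact one_mem _

/-- the image of a block is a subgroup -/
noncomputable def Block.img (B : Block σ hinv i a S m) : Subgroup ↥(tw σ).fix where
  carrier := {y | ∃ s, S s ∧ y = m s}
  one_mem' := ⟨0, B.zero, B.map_zero.symm⟩
  mul_mem' := by
    rintro _ _ ⟨s, hs, rfl⟩ ⟨t, ht, rfl⟩
    have h : S (s + t) := by simpa using B.sub _ _ hs (B.sub _ _ B.zero ht)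
    exact ⟨s + t, h, (B.add s t hs ht).symm⟩
  inv_mem' := by
    rintro _ ⟨s, hs, rfl⟩
    have h : S (0 - s) := B.sub _ _ B.zero hs
    refine ⟨0 - s, h, inv_eq_of_mul_eq_one_right ?_⟩
    rw [← B.add s _ hs h]
    simp [B.map_zero]

variable {Γ : Type*} [Group Γ] {π : Γ →* ↥(tw σ).fix}

theorem Block.self_pair (B : Block σ hinv i a S m)
    (h : ∀ s t, S s → S t → LC π (m s) (m t)) (T : Subgroup ↥(tw σ).fix) [Finite Γ] :
    NoPair π (Ug σ) T i i := by
  refine Or.inr (Or.inr ⟨B.img, B.img, ?_, ?_, ?_⟩)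
  · intro v hv
    obtain ⟨s, hs, hw⟩ := B.cover v hv
    exact ⟨m s, ⟨s, hs, rfl⟩, B.mem s hs, hw⟩
  · intro v hv
    obtain ⟨s, hs, hw⟩ := B.cover v hv
    exact ⟨m s, ⟨s, hs, rfl⟩, B.mem s hs, hw⟩
  · rintro x y ⟨s, hs, e⟩ ⟨t, ht, e'⟩
    exact h s t hs ht x y e e'

theorem Block.lc_free (B : Block σ hinv i a S m) (hc : π.ker ≤ Subgroup.center Γ)
    (hsurj : Function.Surjective π) {u c : Kˣ} (hu : σ (u : K) = u)
    (hS : ∀ s, S s → ∃ r, S r ∧ wt σ u c a * r - r = s) {y : ↥(tw σ).fix}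
    (hty : tq σ hinv u c hu * y = y * tq σ hinv u c hu) (hcom : ∀ r, S r → m r * y = y * m r)
    {s : K} (hs : S s) : LC π (m s) y := by
  obtain ⟨r, hr, rfl⟩ := hS s hs
  rw [← B.twist hu hr]
  exact lc_twist hc hsurj (hcom r hr) hty

theorem Block.triv_comm (B : Block σ hinv i a S m) {u c : Kˣ} (hu : σ (u : K) = u) (he : wt σ u c a = 1)
    {s : K} (hs : S s) : tq σ hinv u c hu * m s = m s * tq σ hinv u c hu := by
  have h := B.conj u c hu s hs
  rw [he, one_mul, mul_inv_eq_iff_eq_mul] at h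
  exact h

theorem commute_lists {L L' : List ℕ} (hc : commChk chevD4 auxD4 L L' [] = true) {x y : ↥(tw σ).fix}
    (hx : (x : GL chevD4.Idx K) ∈ UL K g₄ L) (hy : (y : GL chevD4.Idx K) ∈ UL K g₄ L') : x * y = y * x := by
  have h := comm_UL stdD4 hc hx hy
  rw [UL_nil, Subgroup.mem_bot, commutatorElement_eq_one_iff_mul_comm] at h
  exact Subtype.ext h

theorem mO_mem {r : ℕ} {L : List ℕ} (hc : oneChk r L = true) {t : K} (ht : σ t = t) :
    ((mO σ r t : ↥(tw σ).fix) : GL chevD4.Idx K) ∈ UL K g₄ [r] := by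
  rw [mO_val hc ht]
  exact xG_mem_UL g₄ List.mem_cons_self _

theorem comm_chk : commChk chevD4 auxD4 [14] [23] [] = true ∧ commChk chevD4 auxD4 [22] [23] [] = true ∧
    commChk chevD4 auxD4 [18, 13, 12] [18, 13, 12] [] = true ∧
    commChk chevD4 auxD4 [19, 16, 15] [19, 16, 15] [] = true ∧
    commChk chevD4 auxD4 [17, 20, 21] [17, 20, 21] [] = true := by
  decide +kernel

theorem terms_14_22 : auxD4.terms 14 22 = [(23, 1, 1, 1)] ∨ auxD4.terms 14 22 = [(23, -1, 1, 1)] := by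
  decide +kernel

variable [Fintype K]

/-- the last root group consists of commutators -/
theorem mO_comm (hσ : ∀ x, σ x = x ^ q) (hK : Fintype.card K = q ^ 3) {s : K} (hs : σ s = s) :
    ∃ x y, σ x = x ∧ σ y = y ∧ mO σ 23 s = ⁅mO σ 22 y, mO σ 14 x⁆ := by
  have key : ∀ (z : ℤ), auxD4.terms 14 22 = [(23, z, 1, 1)] → z * z = 1 →
      ∃ x y, σ x = x ∧ σ y = y ∧ mO σ 23 s = ⁅mO σ 22 y, mO σ 14 x⁆ := by
    intro z hT hz
    have hzK : (z : K) * z = 1 := by exact_mod_cast congrArg (Int.cast (R := K)) hz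
    refine ⟨(z : K) * s, -1, by rw [map_mul, map_intCast, hs], by simp, Subtype.ext ?_⟩
    rw [show ((⁅mO σ 22 (-1), mO σ 14 ((z : K) * s)⁆ : ↥(tw σ).fix) : GL chevD4.Idx K) =
        ⁅((mO σ 22 (-1) : ↥(tw σ).fix) : GL chevD4.Idx K),
          ((mO σ 14 ((z : K) * s) : ↥(tw σ).fix) : GL chevD4.Idx K)⁆ from map_commutatorElement (tw σ).fix.subtype _ _,
      mO_val chk_one.2.1 (by simp), mO_val chk_one.1 (by rw [map_mul, map_intCast, hs]),
      mO_val chk_one.2.2.1 hs]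
    obtain ⟨l1, l2, n1, n2⟩ : 14 < chevD4.nroots ∧ 22 < chevD4.nroots ∧ 22 ≠ 14 ∧ 22 ≠ auxD4.neg 14 := by
      decide +kernel
    have e := KnownB.ChevField.comm_word stdD4 l1 l2 n1 n2 (-((z : K) * s)) (1 : K)
    rw [hT] at e
    simp only [List.map_cons, List.map_nil, List.prod_cons, List.prod_nil, mul_one, neg_neg, pow_one] at e
    rw [← mul_assoc, hzK, one_mul] at e
    rw [commutatorElement_def, xG_inv, xG_inv, neg_neg, mul_assoc _ (xG g₄ 22 1), e, ← mul_assoc,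
      show xG g₄ 22 (-1) * xG g₄ 14 ((z : K) * s) * (xG g₄ 14 (-((z : K) * s)) * xG g₄ 22 1) =
        xG g₄ 22 (-1) * (xG g₄ 14 ((z : K) * s) * xG g₄ 14 (-((z : K) * s))) * xG g₄ 22 1 by group,
      xG_add, add_neg_cancel, xG_zero, mul_one, xG_add, neg_add_cancel, xG_zero, one_mul]
  have _ := hσ
  have _ := hK
  rcases terms_14_22 with h | h
  · exact key 1 h (by norm_num)
  · exact key (-1) h (by norm_num)

theorem exists_params (hσ : ∀ x, σ x = x ^ q) (hK : Fintype.card K = q ^ 3) (hq : 3 ≤ q) :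
    ∃ (g w : Kˣ), σ (w : K) = w ∧ (w : K) = g * σ g * σ (σ g) ∧ (w : K) ≠ 1 ∧
      ∃ e : Kˣ, (e : K) * σ e * σ (σ e) = 1 ∧ (e : K) ^ 2 ≠ 1 := by
  classical
  obtain ⟨g, hg⟩ := IsCyclic.exists_ofOrder_eq_natCard (α := Kˣ)
  rw [Nat.card_units, Nat.card_eq_fintype_card, hK] at hg
  have hinv := invol hσ hK
  set w : Kˣ := g * Units.map σ.toMonoidHom g * Units.map σ.toMonoidHom (Units.map σ.toMonoidHom g)
  have hN : ∀ x : Kˣ, ((x : K) * σ x * σ (σ x)) = ((x ^ (1 + q + q * q) : Kˣ) : K) := fun x => by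
    rw [Units.val_pow_eq_pow_val, hσ, hσ, ← pow_mul, pow_add, pow_add, pow_one]
  have hlt : 1 + q + q * q < q ^ 3 - 1 := by
    have : 3 * (q * q) ≤ q ^ 3 := by nlinarith
    have : 3 * q ≤ q * q := Nat.mul_le_mul_right q hq
    omega
  have hpow : ∀ n, 0 < n → n < q ^ 3 - 1 → g ^ n ≠ 1 := fun n h0 hn e =>
    absurd (Nat.le_of_dvd h0 (orderOf_dvd_of_pow_eq_one e)) (by omega)
  refine ⟨g, w, ?_, rfl, ?_, g ^ (q - 1), ?_, ?_⟩
  · show σ ((g : K) * σ g * σ (σ g)) = (g : K) * σ g * σ (σ g)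
    rw [map_mul, map_mul, hinv]; ring
  · show (g : K) * σ g * σ (σ g) ≠ 1
    rw [hN]
    exact fun e => hpow _ (by omega) hlt (Units.ext e)
  · rw [hN, ← pow_mul]
    have e : (q - 1) * (1 + q + q * q) = q ^ 3 - 1 := by
      obtain ⟨m, rfl⟩ : ∃ m, q = m + 1 := ⟨q - 1, by omega⟩
      have h1 : (m + 1) ^ 3 = m * (1 + (m + 1) + (m + 1) * (m + 1)) + 1 := by ring
      rw [h1]; simp
    rw [e, ← hg, pow_orderOf_eq_one, Units.val_one]
  · intro e
    rw [← Units.val_pow_eq_pow_val, ← pow_mul] at e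
    exact hpow _ (by omega) (by
      have : q ≤ q * q := Nat.le_mul_self q
      omega) (Units.ext e)

theorem hop_scale (hσ : ∀ x, σ x = x ^ q) (hK : Fintype.card K = q ^ 3) {s : K} (hs : s ≠ 0) :
    ∀ a ∈ [18, 19, 17], ∃ u c : Kˣ, σ (u : K) = u ∧ wt σ u c a = s ^ 2 := by
  have hinv := invol hσ hK
  set c : Kˣ := Units.mk0 s hs
  set n : Kˣ := c * Units.map σ.toMonoidHom c * Units.map σ.toMonoidHom (Units.map σ.toMonoidHom c)
  have hn : σ (n : K) = n := by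
    show σ (s * σ s * σ (σ s)) = s * σ s * σ (σ s)
    rw [map_mul, map_mul, hinv]; ring
  have h1 : σ s ≠ 0 := (map_ne_zero σ).2 hs
  have h2 : σ (σ s) ≠ 0 := (map_ne_zero σ).2 h1
  intro a ha
  simp only [List.mem_cons, List.not_mem_nil, or_false] at ha
  rcases ha with rfl | rfl | rfl
  · exact ⟨1, c, map_one σ, by rw [wt_18]; simp [c]⟩
  · refine ⟨n, c, hn, ?_⟩
    rw [wt_19]
    simp [c, n]
    field_simp
  · refine ⟨1, n / c, map_one σ, ?_⟩
    rw [wt_17]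
    simp only [Units.val_div_eq_div_val, map_div₀, hn]
    simp [c, n]
    field_simp

set_option maxHeartbeats 800000 in
-- twenty one pairs of factors
/-- the kernel meets the commutator of the preimage of the unipotent part trivially -/
theorem p_part_big (hσ : ∀ x, σ x = x ^ q) (hK : Fintype.card K = q ^ 3) (hq : 3 ≤ q) [Finite Γ]
    (hc : π.ker ≤ Subgroup.center Γ) (hsurj : Function.Surjective π) :
    ∀ x ∈ ⁅((chevD4.posUnipotent K).subgroupOf (tw σ).fix).comap π,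
      ((chevD4.posUnipotent K).subgroupOf (tw σ).fix).comap π⁆, x ∈ π.ker → x = 1 := by
  have hinv := invol hσ hK
  obtain ⟨g, w, hw, hwg, hw1, e, he, he2⟩ := exists_params hσ hK hq
  have b0 := block0 hσ hK
  have b1 := block1 hσ hK
  have b2 := block2 hσ hK
  have b3 := block3 hσ hK
  have b4 := block4 hσ hK
  have b5 := block5 hσ hK
  let T : Subgroup ↥(tw σ).fix := (chevD4.diagonalSubgroup K).subgroupOf (tw σ).fix
  have hTm : ∀ u c hu, tq σ hinv u c hu ∈ T := fun u c hu => by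
    show (tor chevD4 auxD4 (cv σ u c) : GL chevD4.Idx K) ∈ chevD4.diagonalSubgroup K
    rw [diagonalSubgroup_eq g₄]; exact ⟨_, rfl⟩
  have one1 : σ ((1 : Kˣ) : K) = ((1 : Kˣ) : K) := map_one σ
  have hw0 : (w : K) ≠ 0 := w.ne_zero
  have hw2 : σ ((w ^ 2 : Kˣ) : K) = ((w ^ 2 : Kˣ) : K) := by
    rw [Units.val_pow_eq_pow_val, map_pow, hw]
  have hwinv : (w : K)⁻¹ ≠ 1 := fun h => hw1 (inv_eq_one.1 h)
  have heinv : ((e : K) ^ 2)⁻¹ ≠ 1 := fun h => he2 (inv_eq_one.1 h)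
  have e0 : (e : K) ≠ 0 := e.ne_zero
  have e1 : σ (e : K) ≠ 0 := (map_ne_zero σ).2 e0
  have e2' : σ (σ (e : K)) ≠ 0 := (map_ne_zero σ).2 e1
  -- weights of the five operators
  have a1 : wt σ 1 e 18 = (e : K) ^ 2 := by rw [wt_18]; simp
  have c1 : wt σ 1 e 14 = 1 := by rw [wt_14, he]; simp
  have c2 : wt σ 1 e 19 = (e : K) ^ 2 := by
    rw [wt_19, div_eq_iff (mul_ne_zero e1 e2')]; push_cast; linear_combination -(e : K) * he
  have c3 : wt σ 1 e 17 = ((e : K) ^ 2)⁻¹ := by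
    rw [wt_17, div_eq_iff e0, eq_comm, inv_mul_eq_iff_eq_mul₀ (pow_ne_zero _ e0)]
    linear_combination -(e : K) * he
  have c4 : wt σ 1 e 22 = 1 := by rw [wt_22, he]; simp
  have c5 : wt σ 1 e 23 = 1 := by rw [wt_23]; simp
  have d1 : wt σ 1 g 14 = (w : K)⁻¹ := by rw [wt_14, ← hwg]; simp
  have d4 : wt σ 1 g 22 = w := by rw [wt_22, ← hwg]; simp
  have d5 : wt σ 1 g 23 = 1 := by rw [wt_23]; simp
  have f4 : wt σ w g 22 = 1 := by rw [wt_22, ← hwg]; exact div_self hw0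
  have f1 : wt σ w g 14 = w := by rw [wt_14, ← hwg, sq]; exact mul_div_cancel_right₀ _ hw0
  have h40 : wt σ (w ^ 2) w 18 = 1 := by rw [wt_18]; simp [hw0]
  have h42 : wt σ (w ^ 2) w 19 = w := by
    rw [wt_19, hw, hw, Units.val_pow_eq_pow_val]; field_simp
  have h43 : wt σ (w ^ 2) w 17 = w := by rw [wt_17, hw, hw]; field_simp
  have h52 : wt σ w 1 19 = w := by rw [wt_19]; simp
  have h53 : wt σ w 1 17 = 1 := by rw [wt_17]; simp
  have h55 : wt σ w 1 23 = w := wt_23 w 1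
  have hcard : 27 ≤ Fintype.card K := by rw [hK]; exact le_trans (by norm_num) (Nat.pow_le_pow_left hq 3)
  have hshort : ∀ {i a : ℕ} {o : List (ℕ × ℤ)} {hc0 : triChk o [] = true},
      Block σ hinv i a (fun _ => True) (mT hσ hK hc0) → a ∈ [18, 19, 17] →
      (∀ s t, mT hσ hK hc0 s * mT hσ hK hc0 t = mT hσ hK hc0 t * mT hσ hK hc0 s) →
      ∀ s t, LC π (mT hσ hK hc0 s) (mT hσ hK hc0 t) := by
    intro i a o hc0 B ha hcom s t
    refine lc_form hc hsurj (by omega) (fun _ => by omega) _ _ (fun a b => B.add a b trivial trivial)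
      (fun a b => B.add a b trivial trivial) hcom (fun r hr => ?_) s t
    obtain ⟨u, c, hu, hwt⟩ := hop_scale hσ hK hr a ha
    exact ⟨tq σ hinv u c hu, fun x => by
      constructor <;> rw [B.conj u c hu x trivial, hwt]⟩
  have hsA : ∀ s t, LC π (mT hσ hK chk_A.2 s) (mT hσ hK chk_A.2 t) := hshort b0 (by simp)
    fun s t => commute_lists comm_chk.2.2.1 (M_mem_UL s) (M_mem_UL t)
  have hsB : ∀ s t, LC π (mT hσ hK chk_B.2 s) (mT hσ hK chk_B.2 t) := hshort b2 (by simp)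
    fun s t => commute_lists comm_chk.2.2.2.1 (M_mem_UL s) (M_mem_UL t)
  have hsD : ∀ s t, LC π (mT hσ hK chk_D.2 s) (mT hσ hK chk_D.2 t) := hshort b3 (by simp)
    fun s t => commute_lists comm_chk.2.2.2.2 (M_mem_UL s) (M_mem_UL t)
  have hdiv : ∀ {u c : Kˣ} {a : ℕ}, wt σ u c a ≠ 1 → σ (wt σ u c a) = wt σ u c a →
      ∀ s, σ s = s → ∃ r, σ r = r ∧ wt σ u c a * r - r = s := fun {u c a} hne hfix s hs =>
    ⟨s / (wt σ u c a - 1), by rw [map_div₀, map_sub, map_one, hfix, hs], by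
      rw [← sub_one_mul, mul_div_cancel₀ _ (sub_ne_zero.2 hne)]⟩
  have hF : ∀ s t, σ s = s → σ t = t → LC π (mO σ 23 s) (mO σ 23 t) := by
    intro s t hs ht
    obtain ⟨x, y, hx, hy, ee⟩ := mO_comm hσ hK hs
    rw [ee]
    have htt := b5.triv_comm (c := g) one1 d5 ht
    refine lc_comm hc hsurj ?_ ?_
    · exact b4.lc_free hc hsurj one1 (hdiv (by rw [d4]; exact hw1) (by rw [d4]; exact hw))
        htt (fun r hr => commute_lists comm_chk.2.1 (mO_mem chk_one.2.1 hr) (mO_mem chk_one.2.2.1 ht)) hy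
    · exact b1.lc_free hc hsurj one1
        (hdiv (by rw [d1]; exact hwinv) (by rw [d1, map_inv₀, hw]))
        htt (fun r hr => commute_lists comm_chk.1 (mO_mem chk_one.1 hr) (mO_mem chk_one.2.2.1 ht)) hx
  have hpush : ∀ {j : ℕ} (hj : j < foldD43.num) {r r' : ℕ} {L : List ℕ}, oneChk r L = true → oneChk r' [] = true →
      r < chevD4.nroots ∧ wf auxD4 (foldD43.w j) r = r' → ∀ s, σ s = s →
      ∃ s', σ s' = s' ∧ (⟨_, (tw σ).nJ_fix hj⟩ : ↥(tw σ).fix) * mO σ r s * (⟨_, (tw σ).nJ_fix hj⟩ : ↥(tw σ).fix)⁻¹ =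
        mO σ r' s' := by
    intro j hj r r' L hr hr' hmap s hs
    obtain ⟨s', hs', e'⟩ := nJ_conj_one (σ := σ) hj hr' hmap (t := s)
      (by rw [← mO_val hr hs]; exact Subtype.prop _)
    refine ⟨s', hs', Subtype.ext ?_⟩
    push_cast
    rw [mO_val hr hs, mO_val hr' hs', e']
  have hpull : ∀ {x y : ↥(tw σ).fix} (n : ↥(tw σ).fix), LC π (n * x * n⁻¹) (n * y * n⁻¹) → LC π x y := by
    intro x y n h
    have := lc_conj hc hsurj h n⁻¹
    simpa [mul_assoc] using this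
  have h0n : 0 < foldD43.num := by decide +kernel
  have h1n : 1 < foldD43.num := by decide +kernel
  have hE : ∀ s t, σ s = s → σ t = t → LC π (mO σ 22 s) (mO σ 22 t) := by
    intro s t hs ht
    obtain ⟨s', hs', es⟩ := hpush h0n chk_one.2.1 chk_one.2.2.2.2.2 reflect_0.2.2.1 s hs
    obtain ⟨t', ht', et⟩ := hpush h0n chk_one.2.1 chk_one.2.2.2.2.2 reflect_0.2.2.1 t ht
    refine hpull ⟨_, (tw σ).nJ_fix h0n⟩ ?_
    rw [es, et]
    exact hF s' t' hs' ht'
  have hβ : ∀ s t, σ s = s → σ t = t → LC π (mO σ 14 s) (mO σ 14 t) := by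
    intro s t hs ht
    obtain ⟨s', hs', es⟩ := hpush h1n chk_one.1 chk_one.2.2.2.2.1 reflect_0.2.2.2 s hs
    obtain ⟨t', ht', et⟩ := hpush h1n chk_one.1 chk_one.2.2.2.2.1 reflect_0.2.2.2 t ht
    refine hpull ⟨_, (tw σ).nJ_fix h1n⟩ ?_
    rw [es, et]
    exact hE s' t' hs' ht'
  rw [← Ug_zero]
  refine eq_one_of_mem π hsurj hc 6 (Ug σ) (Ug_six σ) (fun i hi => Ug_anti hi)
    (fun i hi => Ug_comm hi) T ?_ ?_ ?_ ?_
  · intro x hx y hy
    have hx' : (x : GL chevD4.Idx K) ∈ chevD4.diagonalSubgroup K := hx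
    have hy' : (y : GL chevD4.Idx K) ∈ chevD4.diagonalSubgroup K := hy
    rw [diagonalSubgroup_eq g₄] at hx' hy'
    obtain ⟨c, ex⟩ := hx'
    obtain ⟨c', ey⟩ := hy'
    refine Subtype.ext ?_
    push_cast
    rw [← ex, ← ey, ← map_mul, mul_comm, map_mul]
  · intro i _ t ht v hv
    have ht' : (t : GL chevD4.Idx K) ∈ chevD4.diagonalSubgroup K := ht
    rw [diagonalSubgroup_eq g₄] at ht'
    obtain ⟨c, et⟩ := ht'
    show ((t * v * t⁻¹ : ↥(tw σ).fix) : GL chevD4.Idx K) ∈ UL K g₄ _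
    push_cast
    refine conj_UL (fun r hr x => ?_) hv
    rw [← et, tor_conj_xG g₄ _ (posRoots_mem.1 ((ord_ok.2 r).1 (List.mem_of_mem_drop hr))).1]
    exact xG_mem_UL g₄ hr _
  · intro i hi
    interval_cases i
    · exact ⟨_, hTm 1 e one1, b0.free one1 (by rw [a1]; exact he2)⟩
    · exact ⟨_, hTm 1 g one1, b1.free one1 (by rw [d1]; exact hwinv)⟩
    · exact ⟨_, hTm 1 e one1, b2.free one1 (by rw [c2]; exact he2)⟩
    · exact ⟨_, hTm 1 e one1, b3.free one1 (by rw [c3]; exact heinv)⟩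
    · exact ⟨_, hTm 1 g one1, b4.free one1 (by rw [d4]; exact hw1)⟩
    · exact ⟨_, hTm w 1 hw, b5.free hw (by rw [h55]; exact hw1)⟩
  · intro i hi j hj
    interval_cases i <;> interval_cases j
    · exact b0.self_pair (fun s t _ _ => hsA s t) T
    · exact Or.inl ⟨_, hTm 1 e one1, b1.triv one1 c1, b0.free one1 (by rw [a1]; exact he2)⟩
    · exact b1.self_pair hβ T
    · exact Or.inr (Or.inl ⟨_, hTm (w ^ 2) w hw2, b0.triv hw2 h40, b2.free hw2 (by rw [h42]; exact hw1)⟩)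
    · exact Or.inr (Or.inl ⟨_, hTm 1 e one1, b1.triv one1 c1, b2.free one1 (by rw [c2]; exact he2)⟩)
    · exact b2.self_pair (fun s t _ _ => hsB s t) T
    · exact Or.inr (Or.inl ⟨_, hTm (w ^ 2) w hw2, b0.triv hw2 h40, b3.free hw2 (by rw [h43]; exact hw1)⟩)
    · exact Or.inr (Or.inl ⟨_, hTm 1 e one1, b1.triv one1 c1, b3.free one1 (by rw [c3]; exact heinv)⟩)
    · exact Or.inl ⟨_, hTm w 1 hw, b3.triv hw h53, b2.free hw (by rw [h52]; exact hw1)⟩
    · exact b3.self_pair (fun s t _ _ => hsD s t) T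
    · exact Or.inl ⟨_, hTm 1 e one1, b4.triv one1 c4, b0.free one1 (by rw [a1]; exact he2)⟩
    · exact Or.inl ⟨_, hTm w g hw, b4.triv hw f4, b1.free hw (by rw [f1]; exact hw1)⟩
    · exact Or.inl ⟨_, hTm 1 e one1, b4.triv one1 c4, b2.free one1 (by rw [c2]; exact he2)⟩
    · exact Or.inl ⟨_, hTm 1 e one1, b4.triv one1 c4, b3.free one1 (by rw [c3]; exact heinv)⟩
    · exact b4.self_pair hE T
    · exact Or.inl ⟨_, hTm 1 e one1, b5.triv one1 c5, b0.free one1 (by rw [a1]; exact he2)⟩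
    · exact Or.inl ⟨_, hTm 1 g one1, b5.triv one1 d5, b1.free one1 (by rw [d1]; exact hwinv)⟩
    · exact Or.inl ⟨_, hTm 1 e one1, b5.triv one1 c5, b2.free one1 (by rw [c2]; exact he2)⟩
    · exact Or.inl ⟨_, hTm 1 e one1, b5.triv one1 c5, b3.free one1 (by rw [c3]; exact heinv)⟩
    · exact Or.inl ⟨_, hTm 1 g one1, b5.triv one1 d5, b4.free one1 (by rw [d4]; exact hw1)⟩
    · exact b5.self_pair hF T

end CfsgLib.Chev.D43Mult
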