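import Cfsg.Agent.Lib.Chev.OrdList
import Cfsg.Agent.Lib.Chev.TwOut.D4

/-!
Coordinates in the unipotent part of a triality twisted group along the orbits of positive roots.
-/

set_option autoImplicit false
set_option maxRecDepth 100000

namespace CfsgLib.Chev.D43Mult

open Cfsg.Lie Matrix CfsgLib.Chev CfsgLib.Chev.D43 CfsgLib.Chev.OrdList CfsgLib.Chev.TwSub

variable {K : Type*} [Field K] {q : ℕ} {σ : K →+* K}

local notation "g₄" => stdD4.good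

/-- the positive roots by orbits -/
def ordL : List ℕ := [18, 13, 12, 14, 19, 16, 15, 17, 20, 21, 22, 23]

/-- the signed short orbits -/
def oA : List (ℕ × ℤ) := [(18, 1), (13, 1), (12, 1)]
/-- the signed short orbits -/
def oB : List (ℕ × ℤ) := [(19, 1), (16, -1), (15, -1)]
/-- the signed short orbits -/
def oD : List (ℕ × ℤ) := [(17, 1), (20, -1), (21, -1)]

/-- a fixed root before a stable list -/
noncomputable def oneChk (r : ℕ) (L : List ℕ) : Bool :=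
  decide (r < chevD4.nroots ∧ foldD43.r r = r ∧ symD4a.e r = 1 ∧ chevD4.IsPosRoot r ∧ r ∉ L) &&
    ordChk chevD4 auxD4 (r :: L) && sepChk chevD4 auxD4 L &&
    decide (∀ s ∈ L, chevD4.IsPosRoot s ∧ foldD43.r s ∈ L)

/-- an orbit of three roots before a stable list -/
noncomputable def triChk (o : List (ℕ × ℤ)) (L : List ℕ) : Bool :=
  match o with
  | [(a, s₁), (b, _), (c, _)] =>
    decide (s₁ = 1 ∧ foldD43.r a = b ∧ foldD43.r b = c ∧ foldD43.r c = a ∧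
      ∀ r ∈ [a, b, c], chevD4.IsPosRoot r ∧ (symD4a.e r = 1 ∨ symD4a.e r = -1)) &&
    orbOK chevD4 auxD4 foldD43 symD4a.e 3 o &&
    ordChk chevD4 auxD4 (a :: b :: c :: L) && sepChk chevD4 auxD4 (b :: c :: L) &&
    sepChk chevD4 auxD4 (c :: L) && sepChk chevD4 auxD4 L &&
    decide (a ∉ b :: c :: L ∧ b ∉ c :: L ∧ c ∉ L ∧ ∀ s ∈ L, chevD4.IsPosRoot s ∧ foldD43.r s ∈ L)
  | _ => false

/-- the element of an orbit -/
noncomputable abbrev M (σ : K →+* K) (o : List (ℕ × ℤ)) (t : K) : GL chevD4.Idx K := orbE g₄ σ o t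

theorem ord_ok : ordChk chevD4 auxD4 ordL = true ∧ ∀ r, r ∈ ordL ↔ r ∈ chevD4.posRoots := by
  refine ⟨by decide +kernel, fun r => ?_⟩
  rw [show chevD4.posRoots = [12, 13, 14, 15, 16, 17, 18, 19, 20, 21, 22, 23] by decide +kernel]
  simp only [ordL, List.mem_cons, List.not_mem_nil, or_false]
  omega

theorem chk_A : triChk oA (ordL.drop 3) = true ∧ triChk oA [] = true := by decide +kernel
theorem chk_B : triChk oB (ordL.drop 7) = true ∧ triChk oB [] = true := by decide +kernel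
theorem chk_D : triChk oD (ordL.drop 10) = true ∧ triChk oD [] = true := by decide +kernel
theorem chk_one : oneChk 14 (ordL.drop 4) = true ∧ oneChk 22 (ordL.drop 11) = true ∧
    oneChk 23 (ordL.drop 12) = true ∧ oneChk 14 [] = true ∧ oneChk 22 [] = true ∧ oneChk 23 [] = true := by
  decide +kernel

theorem UL_ordL : UL K g₄ ordL = chevD4.posUnipotent K := by
  rw [← UL_posRoots (F := K) g₄]
  exact le_antisymm (UL_mono g₄ fun r hr => (ord_ok.2 r).1 hr) (UL_mono g₄ fun r hr => (ord_ok.2 r).2 hr)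

theorem maps_list {L : List ℕ} (hL : ∀ s ∈ L, chevD4.IsPosRoot s ∧ foldD43.r s ∈ L) {y : GL chevD4.Idx K}
    (hy : y ∈ UL K g₄ L) : ∃ z ∈ UL K g₄ L, (tw σ).Maps y z :=
  (tw σ).maps_UP (P := fun r => r ∈ L) (Q := fun r => r ∈ L) (fun r hr => (hL r hr).1.1)
    (fun r hr => (hL r hr).2) hy

theorem phi_eq_zero {r : ℕ} (he : symD4a.e r = 1 ∨ symD4a.e r = -1) {t : K} (ht : (tw σ).phi r t = 0) :
    t = 0 := by
  have h1 : (symD4a.e r : K) * σ t = 0 := ht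
  rcases he with e | e <;> rw [e] at h1 <;> simpa using h1

/-- the coefficient at a fixed root -/
theorem one_coord {r : ℕ} {L : List ℕ} (hc : oneChk r L = true) {y : GL chevD4.Idx K}
    (hy : y ∈ UL K g₄ (r :: L)) (hf : y ∈ (tw σ).fix) :
    ∃ t, σ t = t ∧ ∃ v ∈ UL K g₄ L, y = xG g₄ r t * v := by
  simp only [oneChk, Bool.and_eq_true, decide_eq_true_eq] at hc
  obtain ⟨⟨⟨⟨hr, hrr, he, hp, hn⟩, ho⟩, hsep⟩, hL⟩ := hc
  obtain ⟨t, v, hv, rfl⟩ := exists_head stdD4 ho hy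
  refine ⟨t, ?_, v, hv, rfl⟩
  obtain ⟨v', hv', hm⟩ := maps_list (σ := σ) hL hv
  have h1 := Twist.Maps.fun_eq _ hf (Twist.Maps.mul _ ((tw σ).maps_xG hr t) hm)
  rw [hrr, phi_eq he] at h1
  have h2 : xG g₄ r (-t + σ t) = v * v'⁻¹ := by
    rw [← xG_add, ← xG_inv, eq_mul_inv_iff_mul_eq, mul_assoc, inv_mul_eq_iff_eq_mul, h1]
  exact (neg_add_eq_zero.1 (eq_zero_of_mem stdD4 hsep hp hn (h2 ▸ mul_mem hv (inv_mem hv'))
    fun s hs => (hL s hs).1)).symm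

/-- a fixed element whose first coefficient vanishes -/
theorem tri_zero {a b c : ℕ} {s₁ s₂ s₃ : ℤ} {L : List ℕ} (hc : triChk [(a, s₁), (b, s₂), (c, s₃)] L = true)
    {y : GL chevD4.Idx K} (hy : y ∈ UL K g₄ (b :: c :: L)) (hf : y ∈ (tw σ).fix) : y ∈ UL K g₄ L := by
  simp only [triChk, Bool.and_eq_true, decide_eq_true_eq] at hc
  obtain ⟨⟨⟨⟨⟨⟨⟨-, rab, rbc, rca, he⟩, -⟩, ho⟩, hs2⟩, hs1⟩, hs0⟩, na, nb, nc, hL⟩ := hc
  obtain ⟨pa, -⟩ := he a (by simp)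
  obtain ⟨pb, eb⟩ := he b (by simp)
  obtain ⟨pc, ec⟩ := he c (by simp)
  obtain ⟨T, v, hv, rfl⟩ := exists_head stdD4 (ord_tail ho).1 hy
  obtain ⟨T', w, hw, rfl⟩ := exists_head stdD4 (ord_tail (ord_tail ho).1).1 hv
  obtain ⟨w', hw', hm⟩ := maps_list (σ := σ) hL hw
  have h1 := Twist.Maps.fun_eq _ hf
    (Twist.Maps.mul _ ((tw σ).maps_xG pb.1 T) (Twist.Maps.mul _ ((tw σ).maps_xG pc.1 T') hm))
  rw [rbc, rca] at h1
  have hbc : ∀ s ∈ b :: c :: L, chevD4.IsPosRoot s := by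
    intro s hs
    rcases List.mem_cons.1 hs with rfl | hs
    · exact pb
    rcases List.mem_cons.1 hs with rfl | hs
    · exact pc
    · exact (hL s hs).1
  have hT' : (tw σ).phi c T' = 0 := by
    refine eq_zero_of_mem stdD4 hs2 pa na ?_ hbc
    rw [show xG g₄ a ((tw σ).phi c T') = (xG g₄ c ((tw σ).phi b T))⁻¹ *
      (xG g₄ b T * (xG g₄ c T' * w)) * w'⁻¹ by rw [h1]; group]
    have hb : ∀ t : K, xG g₄ b t ∈ UL K g₄ (b :: c :: L) := xG_mem_UL g₄ List.mem_cons_self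
    have hc' : ∀ t : K, xG g₄ c t ∈ UL K g₄ (b :: c :: L) :=
      xG_mem_UL g₄ (List.mem_cons_of_mem _ List.mem_cons_self)
    have hw2 : ∀ {z}, z ∈ UL K g₄ L → z ∈ UL K g₄ (b :: c :: L) := fun hz =>
      UL_mono g₄ (fun r hr => List.mem_cons_of_mem _ (List.mem_cons_of_mem _ hr)) hz
    exact mul_mem (mul_mem (inv_mem (hc' _)) (mul_mem (hb _) (mul_mem (hc' _) (hw2 hw)))) (inv_mem (hw2 hw'))
  have hT'0 := phi_eq_zero ec hT'
  subst hT'0
  rw [hT', xG_zero, xG_zero, one_mul, one_mul] at h1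
  have hT : T = 0 := by
    refine eq_zero_of_mem stdD4 hs1 pb nb ?_ fun s hs => hbc s (List.mem_cons_of_mem _ hs)
    rw [show xG g₄ b T = xG g₄ c ((tw σ).phi b T) * w' * w⁻¹ by rw [← h1]; group]
    have hw2 : ∀ {z}, z ∈ UL K g₄ L → z ∈ UL K g₄ (c :: L) := fun hz =>
      UL_mono g₄ (fun r hr => List.mem_cons_of_mem _ hr) hz
    exact mul_mem (mul_mem (xG_mem_UL g₄ List.mem_cons_self _) (hw2 hw')) (inv_mem (hw2 hw))
  subst hT
  simpa [xG_zero] using hw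

theorem tri_M {a b c : ℕ} {s₁ s₂ s₃ : ℤ} {L : List ℕ} (hc : triChk [(a, s₁), (b, s₂), (c, s₃)] L = true)
    (t : K) : ∃ v ∈ UL K g₄ (b :: c :: L), M σ [(a, s₁), (b, s₂), (c, s₃)] t = xG g₄ a t * v := by
  simp only [triChk, Bool.and_eq_true, decide_eq_true_eq] at hc
  obtain ⟨⟨⟨⟨⟨⟨⟨rfl, -⟩, -⟩, -⟩, -⟩, -⟩, -⟩, -⟩ := hc
  refine ⟨orbE g₄ σ [(b, s₂), (c, s₃)] (σ t), ?_, by simp [M, orbE]⟩
  simp only [orbE, mul_one]
  exact mul_mem (xG_mem_UL g₄ List.mem_cons_self _) (xG_mem_UL g₄ (List.mem_cons_of_mem _ List.mem_cons_self) _)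

variable [Fintype K]

theorem M_fix (hσ : ∀ x, σ x = x ^ q) (hK : Fintype.card K = q ^ 3) {o : List (ℕ × ℤ)} {L : List ℕ}
    (hc : triChk o L = true) (t : K) : M σ o t ∈ (tw σ).fix := by
  refine orbE_fix (TwOut.D4.fam hσ hK).G ?_ t
  rcases o with _ | ⟨⟨a, s₁⟩, _ | ⟨⟨b, s₂⟩, _ | ⟨⟨c, s₃⟩, _ | o⟩⟩⟩ <;>
    simp only [triChk, Bool.and_eq_true, Bool.false_eq_true] at hc
  exact hc.1.1.1.1.1.2

/-- the coefficient of an orbit -/
theorem tri_coord (hσ : ∀ x, σ x = x ^ q) (hK : Fintype.card K = q ^ 3) {a b c : ℕ} {s₁ s₂ s₃ : ℤ}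
    {L : List ℕ} (hc : triChk [(a, s₁), (b, s₂), (c, s₃)] L = true) {y : GL chevD4.Idx K}
    (hy : y ∈ UL K g₄ (a :: b :: c :: L)) (hf : y ∈ (tw σ).fix) :
    ∃ t, ∃ v ∈ UL K g₄ L, y = M σ [(a, s₁), (b, s₂), (c, s₃)] t * v := by
  have ho : ordChk chevD4 auxD4 (a :: b :: c :: L) = true := by
    simp only [triChk, Bool.and_eq_true, decide_eq_true_eq] at hc
    exact hc.1.1.1.1.2
  obtain ⟨t, v, hv, rfl⟩ := exists_head stdD4 ho hy
  obtain ⟨u, hu, eu⟩ := tri_M (σ := σ) hc t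
  refine ⟨t, (M σ [(a, s₁), (b, s₂), (c, s₃)] t)⁻¹ * (xG g₄ a t * v), ?_, by rw [mul_inv_cancel_left]⟩
  refine tri_zero hc ?_ (mul_mem (inv_mem (M_fix hσ hK hc t)) hf)
  rw [eu, show (xG g₄ a t * u)⁻¹ * (xG g₄ a t * v) = u⁻¹ * v by group]
  exact mul_mem (inv_mem hu) hv

/-- an element of one orbit is determined by its first coefficient -/
theorem tri_eq (hσ : ∀ x, σ x = x ^ q) (hK : Fintype.card K = q ^ 3) {a b c : ℕ} {s₁ s₂ s₃ : ℤ}
    (hc : triChk [(a, s₁), (b, s₂), (c, s₃)] [] = true) {y : GL chevD4.Idx K}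
    (hy : y ∈ UL K g₄ [a, b, c]) (hf : y ∈ (tw σ).fix) :
    ∃ t, y = M σ [(a, s₁), (b, s₂), (c, s₃)] t := by
  obtain ⟨t, v, hv, rfl⟩ := tri_coord hσ hK hc hy hf
  rw [UL_nil, Subgroup.mem_bot] at hv
  exact ⟨t, by rw [hv, mul_one]⟩

omit [Fintype K] in
theorem one_eq {r : ℕ} (hc : oneChk r [] = true) {y : GL chevD4.Idx K}
    (hy : y ∈ UL K g₄ [r]) (hf : y ∈ (tw σ).fix) : ∃ t, σ t = t ∧ y = xG g₄ r t := by
  obtain ⟨t, ht, v, hv, rfl⟩ := one_coord hc hy hf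
  rw [UL_nil, Subgroup.mem_bot] at hv
  exact ⟨t, ht, by rw [hv, mul_one]⟩

end CfsgLib.Chev.D43Mult
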