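import Cfsg.Agent.Lib.Chev.TwOut.LiftDatum
import Cfsg.Agent.Lib.Chev.TwOut.D4

/-!
Central extensions of the triality twisted groups with kernel prime to the characteristic.
-/

set_option autoImplicit false
set_option maxRecDepth 100000

namespace CfsgLib.Chev.D43Mult

open Cfsg.Lie Matrix CfsgLib.Chev CfsgLib.Chev.TwOut CfsgLib.Chev.D43

variable {K : Type*} [Field K] {q : ℕ} {σ : K →+* K}

theorem braid' : SameOn chevD4 (wf auxD4 (foldD43.flat (alt (2 * 3) false)))
    (wf auxD4 (foldD43.flat (alt (2 * 3) true))) := by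
  unfold SameOn
  decide +kernel

theorem back' : ∀ i ∈ foldD43.J 1, ∃ i' ∈ foldD43.J 1,
    wf auxD4 (foldD43.flat (alt (2 * (3 - 1) + 1) false)) (chevD4.simple i) = chevD4.simple i' := by
  decide +kernel

theorem single_ix (u : Kˣ) (i k : Fin 4) :
    (Pi.mulSingle (ix i) u : Fin chevD4.rank → Kˣ) (ix k) = if k = i then u else 1 :=
  (Pi.mulSingle_apply (ix i) u (ix k)).trans rfl

theorem hvec_one (u : Kˣ) (k : Fin 4) :
    hvec chevD4 σ (foldD43.J (jOf false)) u (ix k) = (![1, u, 1, 1] : Fin 4 → Kˣ) k := by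
  rw [show foldD43.J (jOf false) = [1] from rfl]
  simp only [hvec, dif_pos (show (1 : ℕ) < chevD4.rank by decide +kernel), mul_one]
  rw [show (⟨1, show (1 : ℕ) < chevD4.rank by decide +kernel⟩ : Fin chevD4.rank) = ix 1 from rfl, single_ix]
  fin_cases k <;> rfl

theorem hvec_three (u : Kˣ) (k : Fin 4) :
    hvec chevD4 σ (foldD43.J (jOf true)) u (ix k) =
      (![u, 1, Units.map σ.toMonoidHom u, Units.map σ.toMonoidHom (Units.map σ.toMonoidHom u)] :
        Fin 4 → Kˣ) k := by
  rw [show foldD43.J (jOf true) = [0, 2, 3] from rfl]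
  simp only [hvec, dif_pos (show (0 : ℕ) < chevD4.rank by decide +kernel),
    dif_pos (show (2 : ℕ) < chevD4.rank by decide +kernel),
    dif_pos (show (3 : ℕ) < chevD4.rank by decide +kernel), mul_one]
  rw [show (⟨0, show (0 : ℕ) < chevD4.rank by decide +kernel⟩ : Fin chevD4.rank) = ix 0 from rfl,
    show (⟨2, show (2 : ℕ) < chevD4.rank by decide +kernel⟩ : Fin chevD4.rank) = ix 2 from rfl,
    show (⟨3, show (3 : ℕ) < chevD4.rank by decide +kernel⟩ : Fin chevD4.rank) = ix 3 from rfl,
    Pi.mul_apply, Pi.mul_apply, single_ix, single_ix, single_ix]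
  fin_cases k <;> simp

/-- the rank two data -/
theorem pairData [Fintype K] (hσ : ∀ x, σ x = x ^ q) (hK : Fintype.card K = q ^ 3) :
    PairData (D43.tw σ) σ ftabD43 3 where
  num := rfl
  k_pos := by norm_num
  len := by decide +kernel
  braid := braid'
  back := back'
  tor_gen := by
    intro c hc
    have h1 : (tor chevD4 auxD4 c : GL chevD4.Idx K) ∈ chevD4.diagonalSubgroup K ⊓ (D43.tw σ).fix :=
      ⟨by rw [diagonalSubgroup_eq stdD4.good]; exact ⟨c, rfl⟩, hc⟩
    rw [diag_eq] at h1
    obtain ⟨c', hc', e⟩ := h1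
    obtain ⟨-, e1, e2, e3⟩ := (thetaFix_iff c').1 hc'
    let u₀ : (↥(domField σ (foldD43.J (jOf false))))ˣ :=
      Units.mk0 ⟨(c' (ix 1) : K), mem_domField.2 (by
        show σ^[(foldD43.J 0).length] _ = _
        rw [TwOut.D4.roots.2.2.2.2.2.2.2.2.1]; exact e1)⟩ (fun h => (c' (ix 1)).ne_zero (congrArg Subtype.val h))
    let u₁ : (↥(domField σ (foldD43.J (jOf true))))ˣ :=
      Units.mk0 ⟨(c' (ix 0) : K), mem_domField.2 (by
        show σ^[(foldD43.J 1).length] _ = _
        rw [TwOut.D4.roots.2.2.2.2.2.2.2.2.2]; exact invol hσ hK _)⟩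
        (fun h => (c' (ix 0)).ne_zero (congrArg Subtype.val h))
    refine ⟨u₀, u₁, ?_⟩
    rw [← e, ← map_mul]
    congr 1
    have v0 : Units.map (domField σ (foldD43.J (jOf false))).subtype.toMonoidHom u₀ = c' (ix 1) :=
      Units.ext rfl
    have v1 : Units.map (domField σ (foldD43.J (jOf true))).subtype.toMonoidHom u₁ = c' (ix 0) :=
      Units.ext rfl
    rw [v0, v1]
    refine ext_ix fun k => ?_
    rw [Pi.mul_apply, hvec_one, hvec_three]
    have q2 : Units.map σ.toMonoidHom (c' (ix 0)) = c' (ix 2) := Units.ext e2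
    rw [q2, show Units.map σ.toMonoidHom (c' (ix 2)) = c' (ix 3) from Units.ext e3]
    fin_cases k <;> simp
  tor_disj := by
    intro u₀ u₁
    generalize hv0 : Units.map (domField σ (foldD43.J (jOf false))).subtype.toMonoidHom u₀ = v
    generalize hv1 : Units.map (domField σ (foldD43.J (jOf true))).subtype.toMonoidHom u₁ = w
    intro e
    have hz : (tor chevD4 auxD4 (hvec chevD4 σ (foldD43.J (jOf false)) v *
        (hvec chevD4 σ (foldD43.J (jOf true)) w)⁻¹) :
        GL chevD4.Idx K) = 1 := by rw [map_mul, map_inv, e, mul_inv_cancel]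
    obtain ⟨a2, hb, c2, -, hp⟩ := ker_form hz
    simp only [Pi.mul_apply, Pi.inv_apply, hvec_one, hvec_three] at a2 hb c2 hp
    simp at a2 hb c2 hp
    have hw : Units.map σ.toMonoidHom w = w := Units.ext (sgn_fix a2)
    rw [show (Units.map (σ : K →* K)) w = w from hw, show (Units.map (σ : K →* K)) w = w from hw] at hp
    have hw2 : w⁻¹ * w⁻¹ = 1 := by rw [← _root_.mul_inv_rev, ← sq, a2, inv_one]
    rw [hw2, one_mul, inv_eq_one] at hp
    refine ⟨Units.map_injective (f := (domField σ (foldD43.J (jOf false))).subtype.toMonoidHom)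
      Subtype.val_injective ?_, Units.map_injective
      (f := (domField σ (foldD43.J (jOf true))).subtype.toMonoidHom) Subtype.val_injective ?_⟩
    · rw [hv0, map_one]; exact hb
    · rw [hv1, map_one]; exact hp

/-- central extensions with kernel prime to the characteristic split -/
theorem ker_trivial [Fintype K] (hσ : ∀ x, σ x = x ^ q) (hK : Fintype.card K = q ^ 3) (p : ℕ)
    [Fact p.Prime] [CharP K p] {Γ : Type*} [Group Γ] [Finite Γ] (π : Γ →* ↥(D43.tw σ).fix)
    (hsurj : Function.Surjective π) (hc : π.ker ≤ Subgroup.center Γ)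
    (hco : (Nat.card π.ker).Coprime p) (hperf : _root_.commutator Γ = ⊤) : π.ker = ⊥ := by
  have X := TwOut.D4.fam hσ hK
  have P := pairData hσ hK
  refine TwOut.ker_trivial X P p π hsurj hc hco hperf fun s => ?_
  rw [injective_iff_map_eq_one]
  intro u hu
  have hu' : (tor chevD4 auxD4 (hvec chevD4 σ (foldD43.J (jOf s))
      (Units.map (domField σ (foldD43.J (jOf s))).subtype.toMonoidHom u)) : GL chevD4.Idx K) = 1 := hu
  have h1 : ∀ s, (tor chevD4 auxD4 (hvec chevD4 σ (foldD43.J (jOf s))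
      (Units.map (domField σ (foldD43.J (jOf s))).subtype.toMonoidHom 1)) : GL chevD4.Idx K) = 1 := fun s =>
    map_one (orbR1 stdD4 σ (foldD43.J (jOf s)) (X.sepJ (jOf_lt P s))).hh
  cases s
  · exact (P.tor_disj u 1 (hu'.trans (h1 _).symm)).1
  · exact (P.tor_disj 1 u ((h1 _).trans hu'.symm)).2

end CfsgLib.Chev.D43Mult
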