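import Cfsg.Agent.Lib.Chev.D43Mult.Pair
import Cfsg.Agent.Lib.Schur.TransferKill
import Cfsg.Agent.Lib.Schur.Basic

/-!
The multiplier of a triality twisted group vanishes when the unipotent part carries none of it.
-/

set_option autoImplicit false
set_option maxRecDepth 100000

namespace CfsgLib.Chev.D43Mult

open Cfsg.Lie Matrix CfsgLib.Chev CfsgLib.Chev.D43 CfsgLib.Schur

universe u

variable {K : Type u} [Field K] [Fintype K] {q : ℕ} {σ : K →+* K}

/-- the kernel of a stem extension is trivial -/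
theorem stem_trivial (hσ : ∀ x, σ x = x ^ q) (hK : Fintype.card K = q ^ 3) {Γ : Type*} [Group Γ] [Finite Γ]
    (π : Γ →* ↥(tw σ).fix) (hs : Cfsg.IsStemExtension π)
    (hU : ∀ x ∈ ⁅((chevD4.posUnipotent K).subgroupOf (tw σ).fix).comap π,
      ((chevD4.posUnipotent K).subgroupOf (tw σ).fix).comap π⁆, x ∈ π.ker → x = 1) :
    π.ker = ⊥ := by
  obtain ⟨p, hp⟩ := CharP.exists K
  haveI : Fact p.Prime := ⟨CharP.char_is_prime K p⟩
  haveI : Finite (GL chevD4.Idx K) := finite_GL
  obtain ⟨hsurj, hc, hst⟩ := hs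
  obtain ⟨P, hP⟩ := TwOut.sylow_U (p := p) (TwOut.D4.fam hσ hK)
  have hco : (Nat.card π.ker).Coprime p := by
    refine TransferKill.ker_coprime π hsurj hc hst _ ?_ hU
    rw [← hP]
    exact P.not_dvd_index
  refine ker_trivial hσ hK p π hsurj hc hco ?_
  rw [eq_top_iff]
  intro g _
  have hmap : (_root_.commutator Γ).map π = ⊤ := by
    rw [commutator_def, Subgroup.map_commutator, Subgroup.map_top_of_surjective π hsurj, ← commutator_def,
      D43.perfect hσ hK]
  obtain ⟨c, hc', e⟩ := (show π g ∈ (_root_.commutator Γ).map π by rw [hmap]; exact Subgroup.mem_top _)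
  have h1 : c⁻¹ * g ∈ π.ker := by rw [MonoidHom.mem_ker, map_mul, map_inv, e, inv_mul_cancel]
  have h2 := mul_mem hc' (hst h1)
  rwa [mul_inv_cancel_left] at h2

end CfsgLib.Chev.D43Mult
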