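import Cfsg.Agent.Lib.Chev.D43Mult.Coord

/-!
The torus and two reflections acting on the orbit groups of positive roots of triality twisted groups.
-/

set_option autoImplicit false
set_option maxRecDepth 100000

namespace CfsgLib.Chev.D43Mult

open Cfsg.Lie Matrix CfsgLib.Chev CfsgLib.Chev.D43 CfsgLib.Chev.OrdList CfsgLib.Chev.TwSub

variable {K : Type*} [Field K] {q : ℕ} {σ : K →+* K}

local notation "g₄" => stdD4.good

/-- torus parameters -/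
def cv (σ : K →+* K) (u c : Kˣ) : Fin chevD4.rank → Kˣ :=
  (![c, u, Units.map σ.toMonoidHom c, Units.map σ.toMonoidHom (Units.map σ.toMonoidHom c)] : Fin 4 → Kˣ)

theorem cart_vals : ∀ p ∈ [((18 : ℕ), ![(2 : ℤ), -1, 0, 0]), (14, ![-1, 2, -1, -1]), (19, ![1, 1, -1, -1]),
    (17, ![-1, 0, 1, 1]), (22, ![1, -1, 1, 1]), (23, ![0, 1, 0, 0])],
    ∀ i : Fin 4, auxD4.cart i.val p.1 = p.2 i := by
  decide +kernel

theorem chi_cv (u c : Kˣ) {r : ℕ} {z : Fin 4 → ℤ} (hz : ∀ i : Fin 4, auxD4.cart i.val r = z i) :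
    chi chevD4 auxD4 (cv σ u c) r = c ^ z 0 * u ^ z 1 * Units.map σ.toMonoidHom c ^ z 2 *
      Units.map σ.toMonoidHom (Units.map σ.toMonoidHom c) ^ z 3 := by
  show ∏ i : Fin 4, cv σ u c (ix i) ^ auxD4.cart i.val r = _
  simp only [Fin.prod_univ_four, hz]
  rfl

/-- the weight of the torus element at a root -/
noncomputable abbrev wt (σ : K →+* K) (u c : Kˣ) (r : ℕ) : K := (chi chevD4 auxD4 (cv σ u c) r : Kˣ)

theorem wt_18 (u c : Kˣ) : wt σ u c 18 = (c : K) ^ 2 / u := by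
  rw [wt, chi_cv u c (cart_vals _ (List.mem_cons_self))]
  simp [div_eq_mul_inv, zpow_two, sq]

theorem wt_14 (u c : Kˣ) : wt σ u c 14 = (u : K) ^ 2 / (c * σ c * σ (σ c)) := by
  rw [wt, chi_cv u c (cart_vals (14, ![-1, 2, -1, -1]) (by simp))]
  simp [div_eq_mul_inv, zpow_two, sq]
  ring

theorem wt_19 (u c : Kˣ) : wt σ u c 19 = (c : K) * u / (σ c * σ (σ c)) := by
  rw [wt, chi_cv u c (cart_vals (19, ![1, 1, -1, -1]) (by simp))]
  simp [div_eq_mul_inv]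
  ring

theorem wt_17 (u c : Kˣ) : wt σ u c 17 = σ c * σ (σ c) / c := by
  rw [wt, chi_cv u c (cart_vals (17, ![-1, 0, 1, 1]) (by simp))]
  simp [div_eq_mul_inv]
  ring

theorem wt_22 (u c : Kˣ) : wt σ u c 22 = (c : K) * σ c * σ (σ c) / u := by
  rw [wt, chi_cv u c (cart_vals (22, ![1, -1, 1, 1]) (by simp))]
  simp [div_eq_mul_inv]
  ring

theorem wt_23 (u c : Kˣ) : wt σ u c 23 = u := by
  rw [wt, chi_cv u c (cart_vals (23, ![0, 1, 0, 0]) (by simp))]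
  simp

theorem head_eq {a : ℕ} {L : List ℕ} (hs : sepChk chevD4 auxD4 L = true) (ha : chevD4.IsPosRoot a)
    (hn : a ∉ L) (hL : ∀ r ∈ L, chevD4.IsPosRoot r) {t t' : K} {v v' : GL chevD4.Idx K}
    (hv : v ∈ UL K g₄ L) (hv' : v' ∈ UL K g₄ L) (e : xG g₄ a t * v = xG g₄ a t' * v') : t = t' := by
  have h2 : xG g₄ a (-t' + t) = v' * v⁻¹ := by
    rw [← xG_add, ← xG_inv, eq_mul_inv_iff_mul_eq, mul_assoc, inv_mul_eq_iff_eq_mul, e]
  exact (neg_add_eq_zero.1 (eq_zero_of_mem stdD4 hs ha hn (h2 ▸ mul_mem hv' (inv_mem hv)) hL)).symm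

theorem tri_facts {a b c : ℕ} {s₁ s₂ s₃ : ℤ} {L : List ℕ}
    (hc : triChk [(a, s₁), (b, s₂), (c, s₃)] L = true) :
    sepChk chevD4 auxD4 (b :: c :: L) = true ∧ chevD4.IsPosRoot a ∧ a ∉ b :: c :: L ∧
      (∀ r ∈ b :: c :: L, chevD4.IsPosRoot r) ∧
      ([(a, s₁), (b, s₂), (c, s₃)] : List (ℕ × ℤ)).Pairwise fun x y => commPair chevD4 auxD4 x.1 y.1 = true := by
  simp only [triChk, orbOK, Bool.and_eq_true, decide_eq_true_eq] at hc
  obtain ⟨⟨⟨⟨⟨⟨⟨-, -, -, -, he⟩, -, hpw⟩, -⟩, hs⟩, -⟩, -⟩, na, -, -, hL⟩ := hc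
  refine ⟨hs, (he a (by simp)).1, na, fun r hr => ?_, hpw⟩
  rcases List.mem_cons.1 hr with rfl | hr
  · exact (he _ (by simp)).1
  rcases List.mem_cons.1 hr with rfl | hr
  · exact (he _ (by simp)).1
  · exact (hL r hr).1

theorem M_add {a b c : ℕ} {s₁ s₂ s₃ : ℤ} {L : List ℕ}
    (hc : triChk [(a, s₁), (b, s₂), (c, s₃)] L = true) (t u : K) :
    M σ [(a, s₁), (b, s₂), (c, s₃)] (t + u) =
      M σ [(a, s₁), (b, s₂), (c, s₃)] t * M σ [(a, s₁), (b, s₂), (c, s₃)] u :=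
  (orbE_add stdD4 _ (tri_facts hc).2.2.2.2 t u).symm

theorem M_mem_UL {a b c : ℕ} {s₁ s₂ s₃ : ℤ} (t : K) :
    M σ [(a, s₁), (b, s₂), (c, s₃)] t ∈ UL K g₄ [a, b, c] := by
  simp only [M, orbE, mul_one]
  exact mul_mem (xG_mem_UL g₄ List.mem_cons_self _) (mul_mem (xG_mem_UL g₄ (by simp) _) (xG_mem_UL g₄ (by simp) _))

variable [Fintype K]

theorem cv_fix (hσ : ∀ x, σ x = x ^ q) (hK : Fintype.card K = q ^ 3) {u : Kˣ} (hu : σ (u : K) = u)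
    (c : Kˣ) : (tor chevD4 auxD4 (cv σ u c) : GL chevD4.Idx K) ∈ (tw σ).fix := by
  have h : cv σ u c ∈ (tw σ).thetaFix := (thetaFix_iff _).2 ⟨invol hσ hK _, hu, rfl, rfl⟩
  rw [Twist.tor_mem_fix_iff, (Twist.mem_thetaFix _).1 h]

/-- the torus on an orbit group -/
theorem tor_conj_M (hσ : ∀ x, σ x = x ^ q) (hK : Fintype.card K = q ^ 3) {a b c : ℕ} {s₁ s₂ s₃ : ℤ}
    (hc : triChk [(a, s₁), (b, s₂), (c, s₃)] [] = true) {u : Kˣ} (hu : σ (u : K) = u) (d : Kˣ) (t : K) :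
    tor chevD4 auxD4 (cv σ u d) * M σ [(a, s₁), (b, s₂), (c, s₃)] t * (tor chevD4 auxD4 (cv σ u d))⁻¹ =
      M σ [(a, s₁), (b, s₂), (c, s₃)] (wt σ u d a * t) := by
  set g := (tor chevD4 auxD4 (cv σ u d) : GL chevD4.Idx K)
  have hg := cv_fix hσ hK hu d
  obtain ⟨hs, ha, hn, hL, -⟩ := tri_facts hc
  have hrt : ∀ r, chevD4.IsPosRoot r → ∀ {L' : List ℕ}, r ∈ L' → ∀ x, g * xG g₄ r x * g⁻¹ ∈ UL K g₄ L' :=
    fun r hr L' hL' x => by rw [tor_conj_xG g₄ _ hr.1]; exact xG_mem_UL g₄ hL' _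
  obtain ⟨t', e⟩ := tri_eq hσ hK hc
    (conj_UL (K := UL K g₄ [a, b, c]) (fun r hr x => hrt r (by
      rcases List.mem_cons.1 hr with rfl | hr
      · exact ha
      · exact hL r hr) hr x) (M_mem_UL (σ := σ) t))
    (mul_mem (mul_mem hg (M_fix hσ hK hc t)) (inv_mem hg))
  rw [e]
  congr 1
  obtain ⟨v, hv, ev⟩ := tri_M (σ := σ) hc t
  obtain ⟨v', hv', ev'⟩ := tri_M (σ := σ) hc t'
  rw [ev, ev', show g * (xG g₄ a t * v) * g⁻¹ = (g * xG g₄ a t * g⁻¹) * (g * v * g⁻¹) by group,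
    tor_conj_xG g₄ _ ha.1] at e
  exact (head_eq hs ha hn hL (conj_UL (K := UL K g₄ [b, c]) (fun r hr x => hrt r (hL r hr) hr x) hv) hv' e).symm

/-- a monomial element between two orbit groups -/
theorem nJ_conj_M (hσ : ∀ x, σ x = x ^ q) (hK : Fintype.card K = q ^ 3) {j : ℕ} (hj : j < foldD43.num)
    {a b c a' b' c' : ℕ} {s₁ s₂ s₃ r₁ r₂ r₃ : ℤ} (hc : triChk [(a, s₁), (b, s₂), (c, s₃)] [] = true)
    (hc' : triChk [(a', r₁), (b', r₂), (c', r₃)] [] = true)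
    (hmap : ∀ r ∈ [a, b, c], r < chevD4.nroots ∧ wf auxD4 (foldD43.w j) r ∈ [a', b', c']) (t : K) :
    ∃ t', (tw σ).nJ j * M σ [(a, s₁), (b, s₂), (c, s₃)] t * ((tw σ).nJ j)⁻¹ =
      M σ [(a', r₁), (b', r₂), (c', r₃)] t' := by
  refine tri_eq hσ hK hc' (conj_UL (fun r hr x => ?_) (M_mem_UL (σ := σ) t))
    (mul_mem (mul_mem ((tw σ).nJ_fix hj) (M_fix hσ hK hc t)) (inv_mem ((tw σ).nJ_fix hj)))
  obtain ⟨k, -, e⟩ := ((tw σ).nJ_acts hj).conj r (hmap r hr).1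
  rw [e]
  exact xG_mem_UL g₄ (hmap r hr).2 _

omit [Fintype K] in
/-- a monomial element between two fixed root groups -/
theorem nJ_conj_one {j : ℕ} (hj : j < foldD43.num) {r r' : ℕ} (hc' : oneChk r' [] = true)
    (hmap : r < chevD4.nroots ∧ wf auxD4 (foldD43.w j) r = r') {t : K} (hf : xG g₄ r t ∈ (tw σ).fix) :
    ∃ t', σ t' = t' ∧ (tw σ).nJ j * xG g₄ r t * ((tw σ).nJ j)⁻¹ = xG g₄ r' t' := by
  obtain ⟨k, -, e⟩ := ((tw σ).nJ_acts hj).conj r hmap.1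
  refine one_eq hc' ?_ (mul_mem (mul_mem ((tw σ).nJ_fix hj) hf) (inv_mem ((tw σ).nJ_fix hj)))
  rw [e, hmap.2]
  exact xG_mem_UL g₄ List.mem_cons_self _

theorem reflect_0 : (∀ r ∈ [18, 13, 12], r < chevD4.nroots ∧ wf auxD4 (foldD43.w 0) r ∈ [19, 16, 15]) ∧
    (∀ r ∈ [17, 20, 21], r < chevD4.nroots ∧ wf auxD4 (foldD43.w 0) r ∈ [17, 20, 21]) ∧
    (22 < chevD4.nroots ∧ wf auxD4 (foldD43.w 0) 22 = 23) ∧
    (14 < chevD4.nroots ∧ wf auxD4 (foldD43.w 1) 14 = 22) := by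
  decide +kernel

end CfsgLib.Chev.D43Mult
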