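import Cfsg.Agent.Lib.Chev.D43Mult.TwoBasic

/-!
Central extensions over the unipotent part of the triality twisted group over eight elements.
-/

set_option autoImplicit false
set_option maxRecDepth 100000

namespace CfsgLib.Chev.D43Mult

open Cfsg.Lie Matrix CfsgLib.Chev CfsgLib.Chev.D43 CfsgLib.Chev.OrdList CfsgLib.Schur
open CfsgLib.Schur.LiftComm
open scoped commutatorElement

variable {K : Type*} [Field K] [Fintype K] {σ : K →+* K}
variable {Γ : Type*} [Group Γ] {π : Γ →* ↥(tw σ).fix}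

local notation "g₄" => stdD4.good

/-- additive lifts of a short orbit group -/
theorem exists_hat {hinv : ∀ x, σ (σ (σ x)) = x} {i a : ℕ} {m : K → ↥(tw σ).fix}
    (B : Block σ hinv i a (fun _ => True) m) (hc : π.ker ≤ Subgroup.center Γ)
    (hsurj : Function.Surjective π) {c₀ : Kˣ} (h0 : wt σ 1 c₀ a ≠ 1)
    (hlc : ∀ s t, LC π (m s) (m t)) :
    ∃ h : K → Γ, (∀ s, π (h s) = m s) ∧ (∀ s t, h (s + t) = h s * h t) ∧
      ∀ (T : Γ) (c : Kˣ) (hu : σ ((1 : Kˣ) : K) = ((1 : Kˣ) : K)), π T = tq σ hinv 1 c hu →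
        ∀ s, T * h s * T⁻¹ = h (wt σ 1 c a * s) := by
  have one1 : σ ((1 : Kˣ) : K) = ((1 : Kˣ) : K) := map_one σ
  obtain ⟨T₀, hT₀⟩ := hsurj (tq σ hinv 1 c₀ one1)
  choose L hL using fun s => hsurj (m (s / (wt σ 1 c₀ a - 1)))
  have hd : wt σ 1 c₀ a - 1 ≠ 0 := sub_ne_zero.2 h0
  have hπ : ∀ s, π ⁅T₀, L s⁆ = m s := fun s => by
    rw [map_commutatorElement, hT₀, hL, B.twist one1 trivial, ← sub_one_mul, mul_div_cancel₀ _ hd]
  refine ⟨fun s => ⁅T₀, L s⁆, hπ, fun s t => ?_, fun T c hu hT s => ?_⟩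
  · show ⁅T₀, L (s + t)⁆ = ⁅T₀, L s⁆ * ⁅T₀, L t⁆
    rw [comm_eq hc (a := T₀) (a' := T₀) (b := L (s + t)) (b' := L s * L t) rfl (by
        rw [map_mul, hL, hL, hL, ← B.add _ _ trivial trivial, ← add_div]),
      show ⁅T₀, L s * L t⁆ = ⁅T₀, L s⁆ * (L s * ⁅T₀, L t⁆ * (L s)⁻¹) by
        simp only [commutatorElement_def]; group,
      hlc _ _ (L s) ⁅T₀, L t⁆ (hL s) (hπ t), mul_inv_cancel_right]
  · rw [conjugate_commutatorElement]
    refine comm_eq hc ?_ ?_
    · rw [map_mul, map_mul, map_inv, hT, hT₀]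
      refine Subtype.ext ?_
      show tor chevD4 auxD4 _ * tor chevD4 auxD4 _ * (tor chevD4 auxD4 _)⁻¹ = tor chevD4 auxD4 _
      rw [← map_mul, mul_comm (cv σ 1 c), map_mul, mul_inv_cancel_right]
    · rw [map_mul, map_mul, map_inv, hT, hL, hL, B.conj 1 c hu _ trivial, mul_div_assoc]

theorem comm_lists_chk : commChk chevD4 auxD4 [19, 16, 15] [14] [] = true ∧
    commChk chevD4 auxD4 [17, 20, 21] [14] [] = true ∧ commChk chevD4 auxD4 [19, 16, 15] [22] [] = true ∧
    commChk chevD4 auxD4 [17, 20, 21] [22] [] = true ∧ commChk chevD4 auxD4 [18, 13, 12] [22] [] = true ∧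
    commChk chevD4 auxD4 [18, 13, 12] [23] [] = true ∧ commChk chevD4 auxD4 [19, 16, 15] [23] [] = true ∧
    commChk chevD4 auxD4 [17, 20, 21] [23] [] = true ∧
    commChk chevD4 auxD4 [19, 16, 15] [17, 20, 21] [23] = true ∧
    commChk chevD4 auxD4 [18, 13, 12] [17, 20, 21] [22] = true ∧
    commChk chevD4 auxD4 [18, 13, 12] [19, 16, 15] (ordL.drop (kI 3)) = true ∧
    commChk chevD4 auxD4 [18, 13, 12] [14] (ordL.drop (kI 2)) = true ∧
    (∀ r ∈ [16, 15, 17, 20, 21, 22, 23], r ∈ 16 :: 15 :: ordL.drop (kI 3)) ∧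
    (∀ r ∈ ordL.drop (kI 3), r ∈ 16 :: 15 :: ordL.drop (kI 3)) := by
  decide +kernel

set_option maxHeartbeats 6400000 in
-- the whole unipotent part at once
/-- the kernel meets the commutator of the preimage of the unipotent part trivially -/
theorem p_part_two (hσ : ∀ x, σ x = x ^ 2) (hK : Fintype.card K = 2 ^ 3) [Finite Γ]
    (hc : π.ker ≤ Subgroup.center Γ) (hsurj : Function.Surjective π) :
    ∀ x ∈ ⁅((chevD4.posUnipotent K).subgroupOf (tw σ).fix).comap π,
      ((chevD4.posUnipotent K).subgroupOf (tw σ).fix).comap π⁆, x ∈ π.ker → x = 1 := by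
  classical
  haveI := char_two hK
  have hinv := invol hσ hK
  have b0 := block0 hσ hK
  have b1 := block1 hσ hK
  have b2 := block2 hσ hK
  have b3 := block3 hσ hK
  have b4 := block4 hσ hK
  have b5 := block5 hσ hK
  set A := mT (o := oA) (L := []) hσ hK chk_A.2
  set B := mT (o := oB) (L := []) hσ hK chk_B.2
  set Dm := mT (o := oD) (L := []) hσ hK chk_D.2
  set Bβ : ↥(tw σ).fix := mO σ 14 1
  set E1 : ↥(tw σ).fix := mO σ 22 1
  set F1 : ↥(tw σ).fix := mO σ 23 1
  have hA : ∀ s, (A s : GL chevD4.Idx K) ∈ UL K g₄ [18, 13, 12] := fun s => M_mem_UL s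
  have hB : ∀ s, (B s : GL chevD4.Idx K) ∈ UL K g₄ [19, 16, 15] := fun s => M_mem_UL s
  have hD : ∀ s, (Dm s : GL chevD4.Idx K) ∈ UL K g₄ [17, 20, 21] := fun s => M_mem_UL s
  have mβ : (Bβ : GL chevD4.Idx K) ∈ UL K g₄ [14] := mO_mem chk_one.1 (map_one σ)
  have mE : (E1 : GL chevD4.Idx K) ∈ UL K g₄ [22] := mO_mem chk_one.2.1 (map_one σ)
  have mF : (F1 : GL chevD4.Idx K) ∈ UL K g₄ [23] := mO_mem chk_one.2.2.1 (map_one σ)
  obtain ⟨k1, k2, k3, k4, k5, k6, k7, k8, k9, k10, k11, k12, k13, k14⟩ := comm_lists_chk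
  -- operators
  have one1 : σ ((1 : Kˣ) : K) = ((1 : Kˣ) : K) := map_one σ
  have hnorm : ∀ c : Kˣ, (c : K) * σ c * σ (σ c) = 1 := fun c => by
    rw [hσ, hσ, ← pow_mul, ← pow_succ', ← pow_add]
    have h7 := FiniteField.pow_card_sub_one_eq_one (c : K) c.ne_zero
    rw [hK] at h7
    exact h7
  have w18 : ∀ c : Kˣ, wt σ 1 c 18 = (c : K) ^ 2 := fun c => by rw [wt_18]; simp
  have w14 : ∀ c : Kˣ, wt σ 1 c 14 = 1 := fun c => by rw [wt_14, hnorm]; simp
  have w19 : ∀ c : Kˣ, wt σ 1 c 19 = (c : K) ^ 2 := fun c => by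
    rw [wt_19, div_eq_iff (mul_ne_zero ((map_ne_zero σ).2 c.ne_zero) ((map_ne_zero σ).2 ((map_ne_zero σ).2 c.ne_zero)))]
    push_cast
    linear_combination -(c : K) * hnorm c
  have w17 : ∀ c : Kˣ, wt σ 1 c 17 = ((c : K) ^ 2)⁻¹ := fun c => by
    rw [wt_17, div_eq_iff c.ne_zero, eq_comm, inv_mul_eq_iff_eq_mul₀ (pow_ne_zero _ c.ne_zero)]
    linear_combination -(c : K) * hnorm c
  have w22 : ∀ c : Kˣ, wt σ 1 c 22 = 1 := fun c => by rw [wt_22, hnorm]; simp
  have w23 : ∀ c : Kˣ, wt σ 1 c 23 = 1 := fun c => by rw [wt_23]; simp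
  obtain ⟨c₀, hc₀⟩ : ∃ c : Kˣ, (c : K) ^ 2 ≠ 1 := by
    have h8 : 1 < Fintype.card Kˣ := by rw [Fintype.card_units, hK]; norm_num
    obtain ⟨c, hc1⟩ := Fintype.exists_ne_of_one_lt_card h8 1
    refine ⟨c, fun e => hc1 (Units.ext ?_)⟩
    rcases sq_eq_one_iff.1 e with h | h
    · exact h
    · rw [h, CharTwo.neg_eq, Units.val_one]
  have hq18 : wt σ 1 c₀ 18 ≠ 1 := by rw [w18]; exact hc₀
  have hq19 : wt σ 1 c₀ 19 ≠ 1 := by rw [w19]; exact hc₀
  have hq17 : wt σ 1 c₀ 17 ≠ 1 := by rw [w17]; exact fun h => hc₀ (inv_eq_one.1 h)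
  -- lifts commuting with the long root elements
  have hdiv : ∀ {a : ℕ}, wt σ 1 c₀ a ≠ 1 → ∀ s : K, True → ∃ r, True ∧ wt σ 1 c₀ a * r - r = s :=
    fun {a} hne s _ => ⟨s / (wt σ 1 c₀ a - 1), trivial, by
      rw [← sub_one_mul, mul_div_cancel₀ _ (sub_ne_zero.2 hne)]⟩
  have tβ := b1.triv_comm (c := c₀) one1 (w14 c₀) (s := 1) (map_one σ)
  have tE := b4.triv_comm (c := c₀) one1 (w22 c₀) (s := 1) (map_one σ)
  have tF := b5.triv_comm (c := c₀) one1 (w23 c₀) (s := 1) (map_one σ)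
  have lBβ : ∀ s, LC π (B s) Bβ := fun s => b2.lc_free hc hsurj one1 (hdiv hq19) tβ
    (fun r _ => commute_lists k1 (hB r) mβ) trivial
  have lDβ : ∀ s, LC π (Dm s) Bβ := fun s => b3.lc_free hc hsurj one1 (hdiv hq17) tβ
    (fun r _ => commute_lists k2 (hD r) mβ) trivial
  have lBE : ∀ s, LC π (B s) E1 := fun s => b2.lc_free hc hsurj one1 (hdiv hq19) tE
    (fun r _ => commute_lists k3 (hB r) mE) trivial
  have lDE : ∀ s, LC π (Dm s) E1 := fun s => b3.lc_free hc hsurj one1 (hdiv hq17) tE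
    (fun r _ => commute_lists k4 (hD r) mE) trivial
  have lAE : ∀ s, LC π (A s) E1 := fun s => b0.lc_free hc hsurj one1 (hdiv hq18) tE
    (fun r _ => commute_lists k5 (hA r) mE) trivial
  have lAF : ∀ s, LC π (A s) F1 := fun s => b0.lc_free hc hsurj one1 (hdiv hq18) tF
    (fun r _ => commute_lists k6 (hA r) mF) trivial
  have lBF : ∀ s, LC π (B s) F1 := fun s => b2.lc_free hc hsurj one1 (hdiv hq19) tF
    (fun r _ => commute_lists k7 (hB r) mF) trivial
  have lDF : ∀ s, LC π (Dm s) F1 := fun s => b3.lc_free hc hsurj one1 (hdiv hq17) tF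
    (fun r _ => commute_lists k8 (hD r) mF) trivial
  -- short lifts commute among themselves
  have hshort : ∀ {i a : ℕ} {o : List (ℕ × ℤ)} {hc0 : triChk o [] = true},
      Block σ hinv i a (fun _ => True) (mT hσ hK hc0) → a ∈ [18, 19, 17] →
      (∀ s t, mT hσ hK hc0 s * mT hσ hK hc0 t = mT hσ hK hc0 t * mT hσ hK hc0 s) →
      ∀ s t, LC π (mT hσ hK hc0 s) (mT hσ hK hc0 t) := by
    intro i a o hc0 B ha hcom s t
    refine lc_form hc hsurj (by rw [hK]; norm_num) (fun h => absurd CharTwo.two_eq_zero h) _ _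
      (fun a b => B.add a b trivial trivial) (fun a b => B.add a b trivial trivial) hcom (fun r hr => ?_) s t
    obtain ⟨u, c, hu, hwt⟩ := hop_scale hσ hK hr a ha
    exact ⟨tq σ hinv u c hu, fun x => by
      constructor <;> rw [B.conj u c hu x trivial, hwt]⟩
  have lAA : ∀ s t, LC π (A s) (A t) := hshort b0 (by simp)
    fun s t => commute_lists comm_chk.2.2.1 (M_mem_UL s) (M_mem_UL t)
  have lBB : ∀ s t, LC π (B s) (B t) := hshort b2 (by simp)
    fun s t => commute_lists comm_chk.2.2.2.1 (M_mem_UL s) (M_mem_UL t)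
  have lDD : ∀ s t, LC π (Dm s) (Dm t) := hshort b3 (by simp)
    fun s t => commute_lists comm_chk.2.2.2.2 (M_mem_UL s) (M_mem_UL t)
  obtain ⟨ha, pa, aa, ca⟩ := exists_hat b0 hc hsurj hq18 lAA
  obtain ⟨hb, pb, ab, cb⟩ := exists_hat b2 hc hsurj hq19 lBB
  obtain ⟨hd, pd, ad, cd⟩ := exists_hat b3 hc hsurj hq17 lDD
  obtain ⟨be, pbe⟩ := hsurj Bβ
  obtain ⟨e', pe'⟩ := hsurj E1
  have z_comm : ∀ z, π z = 1 → ∀ g : Γ, g * z = z * g := fun z hz g => ker_comm hc hz g
  -- the pairing of the second and third short blocks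
  have hbd1 : π ⁅hb 1, hd 1⁆ = F1 := by
    rw [map_commutatorElement, pb, pd]
    refine Subtype.ext ?_
    rw [show ((⁅B 1, Dm 1⁆ : ↥(tw σ).fix) : GL chevD4.Idx K) =
        ⁅(B 1 : GL chevD4.Idx K), (Dm 1 : GL chevD4.Idx K)⁆ from map_commutatorElement (tw σ).fix.subtype _ _,
      mO_val chk_one.2.2.1 (map_one σ)]
    exact comm_bd_one
  -- the lift of the last root element and its centrality
  set f := ⁅e', be⁆
  have pf : π f = F1 := by
    rw [map_commutatorElement, pe', pbe]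
    obtain ⟨x, y, hx, hy, e⟩ := mO_comm hσ hK (map_one σ)
    rcases fixed_two hσ hy with rfl | rfl
    · rw [b4.map_zero, commutatorElement_one_left] at e
      exact absurd e (long_ne chk_one.2.2.2.2.2)
    rcases fixed_two hσ hx with rfl | rfl
    · rw [b1.map_zero, commutatorElement_one_right] at e
      exact absurd e (long_ne chk_one.2.2.2.2.2)
    exact e.symm
  have fB : ∀ y, hb y * f = f * hb y := fun y => lBF y _ _ (pb y) pf
  have fD : ∀ x, hd x * f = f * hd x := fun x => lDF x _ _ (pd x) pf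
  have fA : ∀ s, ha s * f = f * ha s := fun s => lAF s _ _ (pa s) pf
  have eB : ∀ y, hb y * e' = e' * hb y := fun y => lBE y _ _ (pb y) pe'
  have eD : ∀ x, hd x * e' = e' * hd x := fun x => lDE x _ _ (pd x) pe'
  have βB : ∀ y, hb y * be = be * hb y := fun y => lBβ y _ _ (pb y) pbe
  have βD : ∀ x, hd x * be = be * hd x := fun x => lDβ x _ _ (pd x) pbe
  -- lifts of the last root element commute with the other long lifts
  have hlast : ∀ g, (∀ y, hb y * g = g * hb y) → (∀ x, hd x * g = g * hd x) → g * f = f * g := by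
    intro g h1 h2
    obtain ⟨z, hz, e⟩ := lift_eq hc (hbd1.trans pf.symm)
    have hφ : Commute g ⁅hb 1, hd 1⁆ := by
      have a1 : Commute g (hb 1) := (h1 1).symm
      have a2 : Commute g (hd 1) := (h2 1).symm
      rw [commutatorElement_def]
      exact ((a1.mul_right a2).mul_right a1.inv_right).mul_right a2.inv_right
    rw [e]
    exact (hφ.mul_right (z_comm z hz g)).eq
  have fβ : be * f = f * be := hlast be βB βD
  have fe : e' * f = f * e' := hlast e' eB eD
  -- every value of the pairing is a power of that lift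
  have hpair : ∀ y x, ⁅hb y, hd x⁆ = 1 ∨ ⁅hb y, hd x⁆ = f := by
    intro s x
    -- the conjugate of a commuting pair
    have him : ∃ w1 x', ∃ w2 ∈ Ug σ 4, A s * Bβ * (A s)⁻¹ = B w1 * Dm x' * w2 * Bβ ∧ w1 = s := by
      have h1 : ⁅A s, Bβ⁆ ∈ Ug σ 2 := by
        show ((⁅A s, Bβ⁆ : ↥(tw σ).fix) : GL chevD4.Idx K) ∈ UL K g₄ _
        rw [show ((⁅A s, Bβ⁆ : ↥(tw σ).fix) : GL chevD4.Idx K) =
          ⁅(A s : GL chevD4.Idx K), (Bβ : GL chevD4.Idx K)⁆ from map_commutatorElement (tw σ).fix.subtype _ _]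
        exact comm_UL stdD4 k12 (hA s) mβ
      obtain ⟨w1, -, r, hr, e⟩ := b2.split h1
      obtain ⟨x', -, w2, hw2, e2⟩ := b3.split hr
      refine ⟨w1, x', w2, hw2, ?_, ?_⟩
      · rw [show A s * Bβ * (A s)⁻¹ = ⁅A s, Bβ⁆ * Bβ by rw [commutatorElement_def]; group, e, e2]
        group
      · obtain ⟨z, hz, ez⟩ := comm_beta_head (σ := σ) (K := K) s
        obtain ⟨v, hv, ev⟩ := tri_M (σ := σ) chk_B.1 w1
        obtain ⟨hsep, ha', hn, hL, -⟩ := tri_facts chk_B.1
        have e3 : ((⁅A s, Bβ⁆ : ↥(tw σ).fix) : GL chevD4.Idx K) = xG g₄ 19 w1 * (v * r) := by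
          rw [e, Subgroup.coe_mul, show (B w1 : GL chevD4.Idx K) = xG g₄ 19 w1 * v from ev, mul_assoc]
        rw [show ((⁅A s, Bβ⁆ : ↥(tw σ).fix) : GL chevD4.Idx K) =
          ⁅(A s : GL chevD4.Idx K), (Bβ : GL chevD4.Idx K)⁆ from map_commutatorElement (tw σ).fix.subtype _ _,
          show (Bβ : GL chevD4.Idx K) = xG g₄ 14 (1 : K) from mO_val chk_one.1 (map_one σ),
          show (A s : GL chevD4.Idx K) = M σ oA s from rfl, ez] at e3
        exact (head_eq hsep ha' hn hL (UL_mono g₄ k13 hz)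
          (mul_mem hv (UL_mono g₄ k14 hr)) e3).symm
    obtain ⟨w1, x', w2, hw2, hconj, hw1⟩ := him
    rw [hw1] at hconj
    obtain ⟨j, hjS, r, hr, e2⟩ := b4.split hw2
    have hr' : r = 1 ∨ r = F1 := long_val hσ chk_one.2.2.2.2.2 hr
    obtain ⟨i', hi'⟩ : ∃ i' : ℕ, w2 = E1 ^ i' * r := by
      have h' : mO σ 22 j = 1 ∨ mO σ 22 j = E1 := by
        rcases fixed_two hσ (show σ j = j from hjS) with rfl | rfl
        · exact Or.inl b4.map_zero
        · exact Or.inr rfl
      rcases h' with h' | h'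
      · exact ⟨0, by rw [e2, h', pow_zero]⟩
      · exact ⟨1, by rw [e2, h', pow_one]⟩
    -- the other member
    obtain ⟨m, hm1, hm'⟩ : ∃ m : ℕ, (m = 0 ∨ m = 1) ∧ π (ha s * hd x * (ha s)⁻¹) = E1 ^ m * Dm x := by
      have h1 : ((⁅A s, Dm x⁆ : ↥(tw σ).fix) : GL chevD4.Idx K) ∈ UL K g₄ [22] := by
        rw [show ((⁅A s, Dm x⁆ : ↥(tw σ).fix) : GL chevD4.Idx K) =
          ⁅(A s : GL chevD4.Idx K), (Dm x : GL chevD4.Idx K)⁆ from map_commutatorElement (tw σ).fix.subtype _ _]
        exact comm_UL stdD4 k10 (hA s) (hD x)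
      have h2 : π (ha s * hd x * (ha s)⁻¹) = ⁅A s, Dm x⁆ * Dm x := by
        rw [map_mul, map_mul, map_inv, pa, pd, commutatorElement_def, inv_mul_cancel_right]
      rcases long_val hσ chk_one.2.2.2.2.1 h1 with h | h
      · exact ⟨0, Or.inl rfl, by rw [h2, h, pow_zero]⟩
      · exact ⟨1, Or.inr rfl, by rw [h2, h, pow_one]⟩
    -- the computation
    have hfpow : ∀ {g : Γ}, g * f = f * g → ∀ n : ℕ, g * f ^ n = f ^ n * g := fun h n =>
      (Commute.pow_right h n).eq
    obtain ⟨j', hj'⟩ : ∃ j' : ℕ, r = F1 ^ j' := by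
      rcases hr' with h | h
      · exact ⟨0, by rw [h, pow_zero]⟩
      · exact ⟨1, by rw [h, pow_one]⟩
    set u := hd x' * e' ^ i' * f ^ j'
    have pA' : π (e' ^ m * hd x) = π (ha s * hd x * (ha s)⁻¹) := by rw [hm', map_mul, map_pow, pe', pd]
    have pB' : π (hb s * u * be) = π (ha s * be * (ha s)⁻¹) := by
      simp only [u, map_mul, map_pow, map_inv, pb, pd, pe', pf, pbe, pa]
      rw [hconj, hi', hj', mul_assoc (B s) (Dm x') (E1 ^ i' * F1 ^ j'), mul_assoc (Dm x'), mul_assoc (B s)]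
    have hcom : (e' ^ m * hd x) * (hb s * u * be) = (hb s * u * be) * (e' ^ m * hd x) := by
      refine commutatorElement_eq_one_iff_mul_comm.1 ?_
      rw [comm_eq hc pA' pB', ← conjugate_commutatorElement,
        commutatorElement_eq_one_iff_mul_comm.2 (lDβ x _ _ (pd x) pbe), mul_one, mul_inv_cancel]
    set φ := ⁅hb s, hd x⁆
    have hφc : ∀ g, (∀ y, hb y * g = g * hb y) → (∀ x, hd x * g = g * hd x) → Commute g φ := by
      intro g h1 h2
      have a1 : Commute g (hb s) := (h1 s).symm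
      have a2 : Commute g (hd x) := (h2 x).symm
      rw [show φ = hb s * hd x * (hb s)⁻¹ * (hd x)⁻¹ from commutatorElement_def _ _]
      exact ((a1.mul_right a2).mul_right a1.inv_right).mul_right a2.inv_right
    have cd' : Commute (hd x) u :=
      ((show Commute (hd x) (hd x') from lDD x x' _ _ (pd x) (pd x')).mul_right
        ((show Commute (hd x) e' from eD x).pow_right i')).mul_right ((show Commute (hd x) f from fD x).pow_right j')
    have ce' : Commute (e' ^ m) u :=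
      (((show Commute (hd x') e' from eD x').pow_right m).symm.mul_right
        (Commute.pow_pow (Commute.refl e') m i')).mul_right (Commute.pow_pow fe m j')
    have cbe : e' ^ m * be = f ^ m * be * e' ^ m := by
      have h1 : e' * be = f * be * e' := by simp only [f, commutatorElement_def]; group
      clear hcom pA' hm' hm1 ce'
      induction m with
      | zero => simp
      | succ n ih =>
        rw [pow_succ, mul_assoc, h1, ← mul_assoc, ← mul_assoc, (Commute.pow_left fe n).eq, mul_assoc f,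
          ih, pow_succ' f]
        group
    have hcm : Commute (e' ^ m) (hb s) := ((show Commute (hb s) e' from eB s).pow_right m).symm
    have hcdb : Commute (hd x) be := βD x
    have hΦ : φ = f ^ m := by
      have l : φ * ((e' ^ m * hd x) * (hb s * u * be)) = f ^ m * ((hb s * u * be) * (e' ^ m * hd x)) := by
        have hφe : Commute φ (e' ^ m) := ((hφc e' eB eD).symm).pow_right m
        have hdb : φ * (hd x * hb s) = hb s * hd x := by simp only [φ, commutatorElement_def]; group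
        calc φ * ((e' ^ m * hd x) * (hb s * u * be))
            = (φ * e' ^ m) * (hd x * hb s) * (u * be) := by group
          _ = e' ^ m * (φ * (hd x * hb s)) * (u * be) := by rw [hφe.eq]; group
          _ = e' ^ m * hb s * (hd x * (u * be)) := by rw [hdb]; group
          _ = hb s * e' ^ m * (u * be * hd x) := by rw [hcm.eq, (cd'.mul_right hcdb).eq]
          _ = hb s * (e' ^ m * u) * be * hd x := by group
          _ = hb s * u * (e' ^ m * be) * hd x := by rw [ce'.eq]; group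
          _ = hb s * u * (f ^ m * be * e' ^ m) * hd x := by rw [cbe]
          _ = (hb s * u * f ^ m) * be * (e' ^ m * hd x) := by group
          _ = f ^ m * ((hb s * u * be) * (e' ^ m * hd x)) := by
            have : Commute (hb s * u) (f ^ m) := by
              refine Commute.pow_right (Commute.mul_left (fB s) ?_) m
              exact ((show Commute (hd x') f from fD x').mul_left
                (Commute.pow_left fe i')).mul_left ((Commute.refl f).pow_left j')
            rw [this.eq]; group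
      rw [hcom] at l
      exact mul_right_cancel l
    rcases hm1 with rfl | rfl
    · exact Or.inl (by rw [hΦ, pow_zero])
    · exact Or.inr (by rw [hΦ, pow_one])
  -- the pairing is onto and of order two
  have hf1 : ⁅hb 1, hd 1⁆ = f := by
    rcases hpair 1 1 with h | h
    · rw [h, map_one] at hbd1
      exact absurd hbd1.symm (long_ne chk_one.2.2.2.2.2)
    · exact h
  have hb0 : hb 0 = 1 := by
    have h := ab 0 0
    rw [add_zero] at h
    exact left_eq_mul.1 h
  have f2 : f * f = 1 := by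
    have h : ⁅hb 1 * hb 1, hd 1⁆ = f * f := by
      rw [show ⁅hb 1 * hb 1, hd 1⁆ = hb 1 * ⁅hb 1, hd 1⁆ * (hb 1)⁻¹ * ⁅hb 1, hd 1⁆ by
        simp only [commutatorElement_def]; group, hf1, fB, mul_inv_cancel_right]
    rw [← ab, CharTwo.add_self_eq_zero, hb0, commutatorElement_one_left] at h
    exact h.symm
  -- transport by a monomial element
  have h0n : 0 < foldD43.num := by decide +kernel
  set n₀ : ↥(tw σ).fix := ⟨_, (tw σ).nJ_fix h0n⟩
  obtain ⟨nn, pn⟩ := hsurj n₀
  have hsurjM : ∀ {i a : ℕ} {m m' : K → ↥(tw σ).fix}, Block σ hinv i a (fun _ => True) m →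
      (∀ s, ∃ t, n₀ * m s * n₀⁻¹ = m' t) → ∃ g : K → K, Function.Surjective g ∧
        ∀ s, n₀ * m s * n₀⁻¹ = m' (g s) := by
    intro i a m m' bl hex
    choose g hg using hex
    refine ⟨g, Finite.injective_iff_surjective.1 (fun s t e => ?_), hg⟩
    have h1 : m s = m t := mul_left_cancel (mul_right_cancel ((hg s).trans ((congrArg m' e).trans (hg t).symm)))
    have h2 : m (s - t) = 1 := by
      have := bl.add (s - t) t trivial trivial
      rw [sub_add_cancel, h1] at this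
      exact right_eq_mul.1 this
    exact sub_eq_zero.1 (bl.inj _ trivial (h2 ▸ one_mem _))
  obtain ⟨gA, gAs, hgA⟩ := hsurjM (m' := B) b0 fun s => by
    obtain ⟨t, e⟩ := nJ_conj_M hσ hK h0n chk_A.2 chk_B.2 reflect_0.1 s
    exact ⟨t, Subtype.ext e⟩
  obtain ⟨gD, gDs, hgD⟩ := hsurjM (m' := Dm) b3 fun s => by
    obtain ⟨t, e⟩ := nJ_conj_M hσ hK h0n chk_D.2 chk_D.2 reflect_0.2.1 s
    exact ⟨t, Subtype.ext e⟩
  set ee := nn⁻¹ * f * nn with hee
  have hψc : ∀ s x, nn * ⁅ha s, hd x⁆ * nn⁻¹ = ⁅hb (gA s), hd (gD x)⁆ := fun s x => by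
    rw [conjugate_commutatorElement]
    exact comm_eq hc (by rw [map_mul, map_mul, map_inv, pn, pa, pb]; exact hgA s)
      (by rw [map_mul, map_mul, map_inv, pn, pd, pd]; exact hgD x)
  have hψ : ∀ s x, ⁅ha s, hd x⁆ = 1 ∨ ⁅ha s, hd x⁆ = ee := fun s x => by
    rcases hpair (gA s) (gD x) with h | h <;> rw [← hψc] at h
    · exact Or.inl (conj_eq_one_iff.1 h)
    · exact Or.inr (by rw [hee, ← h]; group)
  obtain ⟨s₁, x₁, hψ1⟩ : ∃ s x, ⁅ha s, hd x⁆ = ee := by
    obtain ⟨s, hs⟩ := gAs 1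
    obtain ⟨x, hx⟩ := gDs 1
    refine ⟨s, x, ?_⟩
    have h := hψc s x
    rw [hs, hx, hf1] at h
    rw [hee, ← h]; group
  have pee : π ee = E1 := by
    have h : ∃ t, σ t = t ∧ (tw σ).nJ 0 * xG g₄ 22 (1 : K) * ((tw σ).nJ 0)⁻¹ = xG g₄ 23 t :=
      nJ_conj_one h0n chk_one.2.2.2.2.2 reflect_0.2.2.1
        (by rw [← mO_val chk_one.2.1 (map_one σ)]; exact Subtype.prop _)
    obtain ⟨t, ht, e⟩ := h
    rcases fixed_two hσ ht with rfl | rfl
    · rw [xG_zero, conj_eq_one_iff, ← mO_val chk_one.2.1 (map_one σ)] at e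
      exact absurd (Subtype.ext e) (long_ne chk_one.2.2.2.2.1)
    · have e' : n₀ * E1 * n₀⁻¹ = F1 := Subtype.ext (by
        push_cast
        rw [mO_val chk_one.2.1 (map_one σ), mO_val chk_one.2.2.1 (map_one σ)]
        exact e)
      rw [hee, map_mul, map_mul, map_inv, pn, pf, ← e']; group
  have e2 : ee * ee = 1 := by
    rw [hee, show nn⁻¹ * f * nn * (nn⁻¹ * f * nn) = nn⁻¹ * (f * f) * nn by group, f2]; group
  have eeA : ∀ s, ha s * ee = ee * ha s := fun s => lAE s _ _ (pa s) pee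
  have eeB : ∀ y, hb y * ee = ee * hb y := fun y => lBE y _ _ (pb y) pee
  have eeD : ∀ x, hd x * ee = ee * hd x := fun x => lDE x _ _ (pd x) pee
  have eef : ee * f = f * ee := hlast ee eeB eeD
  have hβe : be * ee * be⁻¹ ∈ Subgroup.closure ({ee, f} : Set Γ) := by
    have h1 : ⁅ee, be⁆ = f := comm_eq hc (pee.trans pe'.symm) rfl
    have h2 : be * ee * be⁻¹ = f⁻¹ * ee := by rw [← h1, commutatorElement_def]; group
    rw [h2]
    exact mul_mem (inv_mem (Subgroup.subset_closure (by simp))) (Subgroup.subset_closure (by simp))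
  -- the two subgroups of lifts
  obtain ⟨W', hW'⟩ : ∃ W' : Subgroup Γ, W' = Subgroup.closure (Set.range hd ∪ {ee, f}) := ⟨_, rfl⟩
  obtain ⟨W, hW⟩ : ∃ W : Subgroup Γ, W = Subgroup.closure (Set.range hb ∪ (Set.range hd ∪ {ee, f})) := ⟨_, rfl⟩
  have dW' : ∀ x, hd x ∈ W' := fun x => by rw [hW']; exact Subgroup.subset_closure (Or.inl ⟨x, rfl⟩)
  have eW' : ee ∈ W' := by rw [hW']; exact Subgroup.subset_closure (Or.inr (by simp))
  have fW' : f ∈ W' := by rw [hW']; exact Subgroup.subset_closure (Or.inr (by simp))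
  have hle : W' ≤ W := by rw [hW, hW']; exact Subgroup.closure_mono Set.subset_union_right
  have bW : ∀ y, hb y ∈ W := fun y => by rw [hW]; exact Subgroup.subset_closure (Or.inl ⟨y, rfl⟩)
  have pair_mem : ∀ y x, ⁅hb y, hd x⁆ ∈ W' := fun y x => by
    rcases hpair y x with h | h <;> rw [h]
    exacts [one_mem _, fW']
  have psi_mem : ∀ s x, ⁅ha s, hd x⁆ ∈ W' := fun s x => by
    rcases hψ s x with h | h <;> rw [h]
    exacts [one_mem _, eW']
  have conj_cl : ∀ (g : Γ) (S : Set Γ), (∀ w ∈ S, g * w * g⁻¹ ∈ Subgroup.closure S) →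
      ∀ w ∈ Subgroup.closure S, g * w * g⁻¹ ∈ Subgroup.closure S := fun g S h w hw =>
    (Subgroup.closure_le (K := (Subgroup.closure S).comap (MulAut.conj g).toMonoidHom)).2 h hw
  have hnA' : ∀ s, ∀ w ∈ W', ha s * w * (ha s)⁻¹ ∈ W' := fun s => by
    rw [hW']
    refine conj_cl _ _ fun w hw => ?_
    rw [← hW']
    simp only [Set.mem_union, Set.mem_range, Set.mem_insert_iff, Set.mem_singleton_iff] at hw
    rcases hw with ⟨x, rfl⟩ | rfl | rfl
    · have h := mul_mem (psi_mem s x) (dW' x)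
      rwa [commutatorElement_def, inv_mul_cancel_right] at h
    · rw [eeA, mul_inv_cancel_right]; exact eW'
    · rw [fA, mul_inv_cancel_right]; exact fW'
  have hnB' : ∀ y, ∀ w ∈ W', hb y * w * (hb y)⁻¹ ∈ W' := fun y => by
    rw [hW']
    refine conj_cl _ _ fun w hw => ?_
    rw [← hW']
    simp only [Set.mem_union, Set.mem_range, Set.mem_insert_iff, Set.mem_singleton_iff] at hw
    rcases hw with ⟨x, rfl⟩ | rfl | rfl
    · have h := mul_mem (pair_mem y x) (dW' x)
      rwa [commutatorElement_def, inv_mul_cancel_right] at h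
    · rw [eeB, mul_inv_cancel_right]; exact eW'
    · rw [fB, mul_inv_cancel_right]; exact fW'
  -- normal form of the larger one
  have hpow2 : ∀ {g : Γ}, g * g = 1 → ∀ n : ℕ, g ^ n = g ^ (n % 2) := fun {g} hg n => by
    conv_lhs => rw [← Nat.mod_add_div n 2, pow_add, pow_mul, sq, hg, one_pow, mul_one]
  have hinvp : ∀ {g : Γ}, g * g = 1 → ∀ n : ℕ, (g ^ n)⁻¹ = g ^ n := fun {g} hg n => by
    rw [← inv_pow, inv_eq_of_mul_eq_one_right hg]
  have hswap : ∀ y x, ∃ j : ℕ, hd x * hb y = hb y * hd x * f ^ j := fun y x => by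
    have h : hd x * hb y = ⁅hb y, hd x⁆⁻¹ * (hb y * hd x) := by simp only [commutatorElement_def]; group
    rcases hpair y x with e | e <;> rw [e] at h
    · exact ⟨0, by rw [h]; simp⟩
    · refine ⟨1, ?_⟩
      rw [h, inv_eq_of_mul_eq_one_right f2, pow_one]
      exact ((show Commute (hb y) f from fB y).mul_left (fD x)).eq.symm
  have ad0 : hd 0 = 1 := by
    have h := ad 0 0
    rw [add_zero] at h
    exact left_eq_mul.1 h
  have hnf : ∀ w ∈ W, ∃ y x, ∃ i j : ℕ, w = hb y * hd x * (ee ^ i * f ^ j) := by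
    intro w hw
    rw [hW] at hw
    induction hw using Subgroup.closure_induction with
    | one => exact ⟨0, 0, 0, 0, by simp [hb0, ad0]⟩
    | mem w hw =>
      simp only [Set.mem_union, Set.mem_range, Set.mem_insert_iff, Set.mem_singleton_iff] at hw
      rcases hw with ⟨y, rfl⟩ | ⟨x, rfl⟩ | rfl | rfl
      · exact ⟨y, 0, 0, 0, by simp [ad0]⟩
      · exact ⟨0, x, 0, 0, by simp [hb0]⟩
      · exact ⟨0, 0, 1, 0, by simp [hb0, ad0]⟩
      · exact ⟨0, 0, 0, 1, by simp [hb0, ad0]⟩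
    | mul u v _ _ hu hv =>
      obtain ⟨y, x, i, j, rfl⟩ := hu
      obtain ⟨y', x', i', j', rfl⟩ := hv
      obtain ⟨k, hk⟩ := hswap y' x
      refine ⟨y + y', x + x', i + i', k + j + j', ?_⟩
      have c1 : Commute (ee ^ i * f ^ j) (hb y' * hd x') :=
        (((show Commute ee (hb y') from (eeB y').symm).mul_right (eeD x').symm).pow_left i).mul_left
          (((show Commute f (hb y') from (fB y').symm).mul_right (fD x').symm).pow_left j)
      have c2 : Commute (f ^ k) (hd x') := ((show Commute (hd x') f from fD x').pow_right k).symm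
      have c3 : Commute (f ^ k) (ee ^ i) := ((show Commute ee f from eef).pow_pow i k).symm
      have c4 : Commute (f ^ j) (ee ^ i') := ((show Commute ee f from eef).pow_pow i' j).symm
      calc hb y * hd x * (ee ^ i * f ^ j) * (hb y' * hd x' * (ee ^ i' * f ^ j'))
          = hb y * hd x * ((ee ^ i * f ^ j) * (hb y' * hd x')) * (ee ^ i' * f ^ j') := by group
        _ = hb y * (hd x * hb y') * hd x' * (ee ^ i * f ^ j) * (ee ^ i' * f ^ j') := by rw [c1.eq]; group
        _ = hb y * hb y' * hd x * (f ^ k * hd x') * ee ^ i * (f ^ j * ee ^ i') * f ^ j' := by rw [hk]; group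
        _ = hb y * hb y' * (hd x * hd x') * (f ^ k * ee ^ i) * ee ^ i' * f ^ j * f ^ j' := by
          rw [c2.eq, c4.eq]; group
        _ = hb (y + y') * hd (x + x') * (ee ^ (i + i') * f ^ (k + j + j')) := by
          rw [c3.eq, ab, ad]
          have c5 : Commute (f ^ k) (ee ^ i') := ((show Commute ee f from eef).pow_pow i' k).symm
          rw [mul_assoc _ (ee ^ i * f ^ k) (ee ^ i'), mul_assoc (ee ^ i), c5.eq, pow_add, pow_add, pow_add]
          group
    | inv u _ hu =>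
      obtain ⟨y, x, i, j, rfl⟩ := hu
      obtain ⟨k, hk⟩ := hswap (-y) (-x)
      refine ⟨-y, -x, i, k + j, ?_⟩
      have n1 : (hb y)⁻¹ = hb (-y) := inv_eq_of_mul_eq_one_right (by rw [← ab, add_neg_cancel, hb0])
      have n2 : (hd x)⁻¹ = hd (-x) := inv_eq_of_mul_eq_one_right (by rw [← ad, add_neg_cancel, ad0])
      have c1 : Commute (ee ^ i * f ^ j) (hd (-x) * hb (-y)) :=
        (((show Commute ee (hd (-x)) from (eeD _).symm).mul_right (eeB _).symm).pow_left i).mul_left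
          (((show Commute f (hd (-x)) from (fD _).symm).mul_right (fB _).symm).pow_left j)
      have c3 : Commute (f ^ k) (ee ^ i) := ((show Commute ee f from eef).pow_pow i k).symm
      calc (hb y * hd x * (ee ^ i * f ^ j))⁻¹
          = (f ^ j)⁻¹ * (ee ^ i)⁻¹ * ((hd x)⁻¹ * (hb y)⁻¹) := by group
        _ = (ee ^ i * f ^ j) * (hd (-x) * hb (-y)) := by
          rw [hinvp e2, hinvp f2, n1, n2, ((show Commute ee f from eef).pow_pow i j).eq]
        _ = (hb (-y) * hd (-x) * f ^ k) * (ee ^ i * f ^ j) := by rw [c1.eq, hk]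
        _ = hb (-y) * hd (-x) * (ee ^ i * f ^ (k + j)) := by
          rw [mul_assoc (hb (-y) * hd (-x)), ← mul_assoc (f ^ k), c3.eq, pow_add]; group
  have hE4 : E1 ∈ Ug σ 4 := b4.mem 1 (map_one σ)
  have hF5 : F1 ∈ Ug σ 5 := b5.mem 1 (map_one σ)
  have hWker : ∀ w ∈ W, π w = 1 → w = 1 := by
    intro w hw h1
    obtain ⟨y, x, i, j, rfl⟩ := hnf w hw
    rw [map_mul, map_mul, map_mul, map_pow, map_pow, pb, pd, pee, pf] at h1
    have hy : y = 0 := by
      refine b2.inj y trivial ?_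
      rw [mul_eq_one_iff_eq_inv, ← eq_mul_inv_iff_mul_eq] at h1
      rw [h1]
      exact mul_mem (inv_mem (mul_mem (pow_mem (Ug_anti (by norm_num) hE4) _)
        (pow_mem (Ug_anti (by norm_num) (Ug_anti (by norm_num) hF5)) _))) (inv_mem (b3.mem x trivial))
    subst hy
    rw [b2.map_zero, one_mul] at h1
    have hx : x = 0 := by
      refine b3.inj x trivial ?_
      rw [mul_eq_one_iff_eq_inv.1 h1]
      exact inv_mem (mul_mem (pow_mem hE4 _) (pow_mem (Ug_anti (by norm_num) hF5) _))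
    subst hx
    rw [b3.map_zero, one_mul] at h1
    rw [hb0, ad0, one_mul, one_mul, hpow2 e2 i, hpow2 f2 j]
    have hEE : E1 * E1 = 1 := by
      rw [← b4.add 1 1 (map_one σ) (map_one σ), CharTwo.add_self_eq_zero, b4.map_zero]
    have hFF : F1 * F1 = 1 := by
      rw [← b5.add 1 1 (map_one σ) (map_one σ), CharTwo.add_self_eq_zero, b5.map_zero]
    rcases Nat.even_or_odd i with hi | hi
    · rw [Nat.even_iff.1 hi, pow_zero, one_mul]
      obtain ⟨r, rfl⟩ := hi
      rw [← two_mul, pow_mul, sq, hEE, one_pow, one_mul] at h1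
      rcases Nat.even_or_odd j with hj | hj
      · rw [Nat.even_iff.1 hj, pow_zero]
      · obtain ⟨l, rfl⟩ := hj
        rw [pow_succ, pow_mul, sq, hFF, one_pow, one_mul] at h1
        exact absurd h1 (long_ne chk_one.2.2.2.2.2)
    · exfalso
      obtain ⟨r, rfl⟩ := hi
      rw [pow_succ, pow_mul, sq, hEE, one_pow, one_mul, mul_eq_one_iff_eq_inv] at h1
      exact one_ne_zero (b4.inj 1 (map_one σ) (show E1 ∈ _ from h1 ▸ inv_mem (pow_mem hF5 j)))
  -- decompositions in the lower terms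
  have hdec : ∀ v ∈ Ug σ 3, ∃ w ∈ W', π w = v := by
    intro v hv
    obtain ⟨x, -, r, hr, rfl⟩ := b3.split hv
    obtain ⟨t, ht, r', hr', rfl⟩ := b4.split hr
    obtain ⟨t', ht', r'', hr'', rfl⟩ := b5.split hr'
    rw [Ug_six, Subgroup.mem_bot] at hr''
    subst hr''
    rcases fixed_two hσ ht with rfl | rfl <;> rcases fixed_two hσ ht' with rfl | rfl
    · exact ⟨hd x, dW' x, by rw [b4.map_zero, b5.map_zero, pd]; group⟩
    · exact ⟨hd x * f, mul_mem (dW' x) fW', by rw [b4.map_zero, map_mul, pd, pf]; group; rfl⟩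
    · exact ⟨hd x * ee, mul_mem (dW' x) eW', by rw [b5.map_zero, map_mul, pd, pee]; group; rfl⟩
    · exact ⟨hd x * (ee * f), mul_mem (dW' x) (mul_mem eW' fW'), by
        rw [map_mul, map_mul, pd, pee, pf]; group; rfl⟩
  -- lifted operators keep the lower lifts
  have hT : ∀ c : Kˣ, ∀ T : Γ, π T = tq σ hinv 1 c one1 → ∀ w ∈ W', T * w * T⁻¹ ∈ W' := by
    intro c T hT
    rw [hW']
    refine conj_cl _ _ fun w hw => ?_
    rw [← hW']
    simp only [Set.mem_union, Set.mem_range, Set.mem_insert_iff, Set.mem_singleton_iff] at hw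
    rcases hw with ⟨x, rfl⟩ | rfl | rfl
    · rw [cd T c one1 hT]; exact dW' _
    · rw [← hψ1, conjugate_commutatorElement, ca T c one1 hT, cd T c one1 hT]; exact psi_mem _ _
    · rw [← hf1, conjugate_commutatorElement, cb T c one1 hT, cd T c one1 hT]; exact pair_mem _ _
  have hTW : ∀ c : Kˣ, ∀ T : Γ, π T = tq σ hinv 1 c one1 → ∀ w ∈ W, T * w * T⁻¹ ∈ W := by
    intro c T hT'
    rw [hW]
    refine conj_cl _ _ fun w hw => ?_
    rw [← hW]
    rcases hw with ⟨y, rfl⟩ | hw
    · rw [cb T c one1 hT']; exact bW _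
    · exact hle (hT c T hT' w (by rw [hW']; exact Subgroup.subset_closure hw))
  letI : CommGroup π.ker := { (inferInstance : Group π.ker) with
    mul_comm := fun x y => Subtype.ext (z_comm _ y.2 x) }
  have huniq : ∀ {w w' k k' : Γ}, w ∈ W → w' ∈ W → π k = 1 → π k' = 1 → w * k = w' * k' → k = k' := by
    intro w w' k k' hw hw' hk hk' e
    have h1 : w'⁻¹ * w = k' * k⁻¹ := by
      rw [eq_mul_inv_iff_mul_eq, mul_assoc, e, inv_mul_cancel_left]
    have h2 := hWker _ (mul_mem (inv_mem hw') hw) (by rw [h1, map_mul, map_inv, hk, hk']; simp)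
    rw [inv_mul_eq_one] at h2
    subst h2
    exact mul_left_cancel e
  -- the first two short blocks
  have hab : ∀ s y, ∃ w ∈ W', ∃ k : π.ker, ⁅ha s, hb y⁆ = w * k := by
    intro s y
    have h1 : ⁅A s, B y⁆ ∈ Ug σ 3 := by
      show ((⁅A s, B y⁆ : ↥(tw σ).fix) : GL chevD4.Idx K) ∈ UL K g₄ _
      rw [show ((⁅A s, B y⁆ : ↥(tw σ).fix) : GL chevD4.Idx K) =
        ⁅(A s : GL chevD4.Idx K), (B y : GL chevD4.Idx K)⁆ from map_commutatorElement (tw σ).fix.subtype _ _]
      exact comm_UL stdD4 k11 (hA s) (hB y)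
    obtain ⟨w, hw, e⟩ := hdec _ h1
    exact ⟨w, hw, ⟨w⁻¹ * ⁅ha s, hb y⁆, by
      rw [MonoidHom.mem_ker, map_mul, map_inv, map_commutatorElement, pa, pb, e, inv_mul_cancel]⟩,
      (mul_inv_cancel_left _ _).symm⟩
  choose wab hwab kab hkab using hab
  have kab0 : ∀ s y, kab s y = 1 := by
    let β : K → K → Additive π.ker := fun s y => Additive.ofMul (kab s y)
    intro s y
    refine Additive.ofMul.injective (CfsgLib.KnownA.SLTwo.eq_zero_of_invariant_form
      (by rw [hK]; norm_num) (fun h => absurd CharTwo.two_eq_zero h) β ?_ ?_ ?_ s y)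
    · intro s s' y
      refine Additive.toMul.injective (Subtype.ext ?_)
      show ((kab (s + s') y : π.ker) : Γ) = (kab s y : Γ) * kab s' y
      refine huniq (hle (hwab (s + s') y)) (w' := (ha s * wab s' y * (ha s)⁻¹) * wab s y)
        (mul_mem (hle (hnA' _ _ (hwab _ _))) (hle (hwab _ _))) (kab _ _).2 (mul_mem (kab s y).2 (kab s' y).2 :
          (kab s y : Γ) * kab s' y ∈ π.ker) ?_
      rw [← hkab, aa, show ⁅ha s * ha s', hb y⁆ = ha s * ⁅ha s', hb y⁆ * (ha s)⁻¹ * ⁅ha s, hb y⁆ by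
        simp only [commutatorElement_def]; group, hkab, hkab]
      have a1 := z_comm _ (kab s' y).2
      calc ha s * (wab s' y * kab s' y) * (ha s)⁻¹ * (wab s y * kab s y)
          = ha s * wab s' y * (kab s' y * ((ha s)⁻¹ * (wab s y * kab s y))) := by group
        _ = ha s * wab s' y * ((ha s)⁻¹ * (wab s y * kab s y) * kab s' y) := by rw [← a1]
        _ = _ := by group
    · intro s y y'
      refine Additive.toMul.injective (Subtype.ext ?_)
      show ((kab s (y + y') : π.ker) : Γ) = (kab s y : Γ) * kab s y'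
      refine huniq (hle (hwab s (y + y'))) (w' := wab s y * (hb y * wab s y' * (hb y)⁻¹))
        (mul_mem (hle (hwab _ _)) (hle (hnB' _ _ (hwab _ _)))) (kab _ _).2 (mul_mem (kab s y).2 (kab s y').2 :
          (kab s y : Γ) * kab s y' ∈ π.ker) ?_
      rw [← hkab, ab, show ⁅ha s, hb y * hb y'⁆ = ⁅ha s, hb y⁆ * (hb y * ⁅ha s, hb y'⁆ * (hb y)⁻¹) by
        simp only [commutatorElement_def]; group, hkab, hkab]
      have a1 := z_comm _ (kab s y').2
      have a2 := z_comm _ (kab s y).2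
      calc wab s y * kab s y * (hb y * (wab s y' * kab s y') * (hb y)⁻¹)
          = wab s y * (kab s y * (hb y * wab s y')) * (kab s y' * (hb y)⁻¹) := by group
        _ = wab s y * (hb y * wab s y' * kab s y) * ((hb y)⁻¹ * kab s y') := by rw [← a1, ← a2]
        _ = wab s y * (hb y * wab s y') * ((kab s y) * (hb y)⁻¹) * kab s y' := by group
        _ = _ := by rw [← a2]; group
    · intro r hr s y
      refine Additive.toMul.injective (Subtype.ext ?_)
      show ((kab (r ^ 2 * s) (r ^ 2 * y) : π.ker) : Γ) = kab s y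
      obtain ⟨T, pT⟩ := hsurj (tq σ hinv 1 (Units.mk0 r hr) one1)
      refine huniq (hle (hwab (r ^ 2 * s) (r ^ 2 * y))) (w' := T * wab s y * T⁻¹) (hle (hT _ T pT _ (hwab _ _))) (kab _ _).2
        (kab _ _).2 ?_
      have h := congrArg (fun g => T * g * T⁻¹) (hkab s y)
      simp only [conjugate_commutatorElement] at h
      rw [ca T _ one1 pT, cb T _ one1 pT, w18, w19, Units.val_mk0, hkab] at h
      rw [h, ← mul_assoc, mul_assoc _ (kab s y : Γ) T⁻¹, ← z_comm _ (kab s y).2 T⁻¹, ← mul_assoc]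
  have hnA : ∀ s, ∀ w ∈ W, ha s * w * (ha s)⁻¹ ∈ W := fun s => by
    rw [hW]
    refine conj_cl _ _ fun w hw => ?_
    rw [← hW]
    rcases hw with ⟨y, rfl⟩ | hw
    · have h : ⁅ha s, hb y⁆ ∈ W := by
        rw [hkab, kab0, Subgroup.coe_one, mul_one]; exact hle (hwab _ _)
      have h' := mul_mem h (bW y)
      rwa [commutatorElement_def, inv_mul_cancel_right] at h'
    · exact hle (hnA' s w (by rw [hW']; exact Subgroup.subset_closure hw))
  -- the first short block against the long simple root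
  have haβ : ∀ s, ∃ w ∈ W, ∃ k : π.ker, ⁅ha s, be⁆ = w * k := by
    intro s
    have h1 : ⁅A s, Bβ⁆ ∈ Ug σ 2 := by
      show ((⁅A s, Bβ⁆ : ↥(tw σ).fix) : GL chevD4.Idx K) ∈ UL K g₄ _
      rw [show ((⁅A s, Bβ⁆ : ↥(tw σ).fix) : GL chevD4.Idx K) =
        ⁅(A s : GL chevD4.Idx K), (Bβ : GL chevD4.Idx K)⁆ from map_commutatorElement (tw σ).fix.subtype _ _]
      exact comm_UL stdD4 k12 (hA s) mβ
    obtain ⟨y, -, r, hr, e⟩ := b2.split h1
    obtain ⟨w, hw, ew⟩ := hdec r hr
    exact ⟨hb y * w, mul_mem (bW y) (hle hw), ⟨(hb y * w)⁻¹ * ⁅ha s, be⁆, by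
      rw [MonoidHom.mem_ker, map_mul, map_inv, map_commutatorElement, pa, pbe, map_mul, pb, ew, ← e,
        inv_mul_cancel]⟩, (mul_inv_cancel_left _ _).symm⟩
  choose waβ hwaβ kaβ hkaβ using haβ
  have kaβ0 : ∀ s, kaβ s = 1 := by
    have hadd : ∀ s s', kaβ (s + s') = kaβ s * kaβ s' := fun s s' => by
      refine Subtype.ext (huniq (hwaβ (s + s')) (w' := (ha s * waβ s' * (ha s)⁻¹) * waβ s)
        (mul_mem (hnA _ _ (hwaβ _)) (hwaβ _)) (kaβ (s + s')).2 (kaβ s * kaβ s' : π.ker).2 ?_)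
      rw [← hkaβ, aa, show ⁅ha s * ha s', be⁆ = ha s * ⁅ha s', be⁆ * (ha s)⁻¹ * ⁅ha s, be⁆ by
        simp only [commutatorElement_def]; group, hkaβ, hkaβ, Subgroup.coe_mul]
      have a1 := z_comm _ (kaβ s').2
      calc ha s * (waβ s' * kaβ s') * (ha s)⁻¹ * (waβ s * kaβ s)
          = ha s * waβ s' * (kaβ s' * ((ha s)⁻¹ * (waβ s * kaβ s))) := by group
        _ = ha s * waβ s' * ((ha s)⁻¹ * (waβ s * kaβ s) * kaβ s') := by rw [← a1]
        _ = _ := by group
    have hscale : ∀ r : K, r ≠ 0 → kaβ (r ^ 2) = kaβ 1 := fun r hr => by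
      obtain ⟨T, pT⟩ := hsurj (tq σ hinv 1 (Units.mk0 r hr) one1)
      refine Subtype.ext (huniq (hwaβ (r ^ 2)) (w' := T * waβ 1 * T⁻¹) (hTW _ T pT _ (hwaβ _)) (kaβ (r ^ 2)).2 (kaβ 1).2 ?_)
      have h := congrArg (fun g => T * g * T⁻¹) (hkaβ 1)
      simp only [conjugate_commutatorElement] at h
      rw [ca T _ one1 pT, w18, Units.val_mk0, mul_one,
        comm_eq hc (a := ha (r ^ 2)) (a' := ha (r ^ 2)) (b := T * be * T⁻¹) (b' := be) rfl (by
          rw [map_mul, map_mul, map_inv, pT, pbe, b1.triv_comm one1 (w14 _) (map_one σ), mul_inv_cancel_right]),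
        hkaβ] at h
      rw [h, ← mul_assoc, mul_assoc _ (kaβ 1 : Γ) T⁻¹, ← z_comm _ (kaβ 1).2 T⁻¹, ← mul_assoc]
    have hall : ∀ r : K, r ≠ 0 → kaβ r = kaβ 1 := fun r hr => by
      obtain ⟨t, rfl⟩ := FiniteField.isSquare_of_char_two (ringChar.eq K 2) r
      rw [← sq]; exact hscale t (left_ne_zero_of_mul hr)
    have h1 : kaβ 1 = 1 := by
      have hc1 : (c₀ : K) + 1 ≠ 0 := fun h => hc₀ (by
        rw [add_eq_zero_iff_eq_neg, CharTwo.neg_eq] at h
        rw [h, one_pow])
      have h := hadd (c₀ : K) ((c₀ : K) + 1)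
      rw [← add_assoc, CharTwo.add_self_eq_zero, zero_add, hall _ c₀.ne_zero, hall _ hc1] at h
      exact left_eq_mul.1 h
    intro s
    by_cases hs : s = 0
    · subst hs
      have h := hadd 0 0
      rw [add_zero] at h
      exact left_eq_mul.1 h
    · rw [hall s hs, h1]
  have hnβ : ∀ w ∈ W, be * w * be⁻¹ ∈ W := by
    rw [hW]
    refine conj_cl _ _ fun w hw => ?_
    rw [← hW]
    simp only [Set.mem_union, Set.mem_range, Set.mem_insert_iff, Set.mem_singleton_iff] at hw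
    rcases hw with ⟨y, rfl⟩ | ⟨x, rfl⟩ | rfl | rfl
    · rw [← βB, mul_inv_cancel_right]; exact bW y
    · rw [← βD, mul_inv_cancel_right]; exact hle (dW' x)
    · exact (Subgroup.closure_le W).2 (by
        intro z hz
        simp only [Set.mem_insert_iff, Set.mem_singleton_iff] at hz
        rcases hz with rfl | rfl
        exacts [hle eW', hle fW']) hβe
    · rw [fβ, mul_inv_cancel_right]; exact hle fW'
  -- generators of the preimage
  obtain ⟨gens, hgens⟩ : ∃ S : Set Γ, S = (π.ker : Set Γ) ∪ (Set.range ha ∪ ({be} ∪ (W : Set Γ))) := ⟨_, rfl⟩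
  have hN : ∀ g ∈ gens, ∀ w ∈ W, g * w * g⁻¹ ∈ W := by
    rw [hgens]
    intro g hg w hw
    rcases hg with hk | ⟨s, rfl⟩ | hg | hg
    · rw [← z_comm g hk w, mul_inv_cancel_right]; exact hw
    · exact hnA s w hw
    · rw [Set.mem_singleton_iff.1 hg]; exact hnβ w hw
    · exact mul_mem (mul_mem hg hw) (inv_mem hg)
  have hNcl : ∀ g ∈ Subgroup.closure gens, ∀ w ∈ W, g * w * g⁻¹ ∈ W := by
    intro g hg
    have hN' : ∀ g ∈ gens, g ∈ Subgroup.normalizer (W : Set Γ) := fun g hg =>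
      ChainSplit.mem_normalizer_of_conj (hN g hg)
    exact fun w hw => ((Subgroup.mem_normalizer_iff.1 ((Subgroup.closure_le _).2 hN' hg)) w).1 hw
  have symmW : ∀ {g g' : Γ}, ⁅g, g'⁆ ∈ W → ⁅g', g⁆ ∈ W := fun {g g'} h => by
    rw [← commutatorElement_inv]; exact inv_mem h
  have hgg : ∀ g ∈ gens, ∀ g' ∈ gens, ⁅g, g'⁆ ∈ W := by
    have hWg : ∀ g ∈ gens, ∀ w ∈ W, ⁅g, w⁆ ∈ W := fun g hg w hw => by
      rw [commutatorElement_def]; exact mul_mem (hN g hg w hw) (inv_mem hw)
    have haw : ∀ s, ⁅ha s, be⁆ ∈ W := fun s => by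
      rw [hkaβ, kaβ0, Subgroup.coe_one, mul_one]; exact hwaβ s
    intro g hg g' hg'
    have hg0 := hg
    have hg0' := hg'
    rw [hgens] at hg hg'
    rcases hg with hk | ⟨s, rfl⟩ | hg | hg
    · rw [commutatorElement_eq_one_iff_mul_comm.2 (z_comm g hk g').symm]; exact one_mem _
    · rcases hg' with hk | ⟨s', rfl⟩ | hg' | hg'
      · rw [commutatorElement_eq_one_iff_mul_comm.2 (z_comm g' hk _)]; exact one_mem _
      · rw [commutatorElement_eq_one_iff_mul_comm.2 (lAA s s' _ _ (pa s) (pa s'))]; exact one_mem _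
      · rw [Set.mem_singleton_iff.1 hg']; exact haw s
      · exact hWg _ hg0 _ hg'
    · rw [Set.mem_singleton_iff.1 hg] at hg0 ⊢
      rcases hg' with hk | ⟨s', rfl⟩ | hg' | hg'
      · rw [commutatorElement_eq_one_iff_mul_comm.2 (z_comm g' hk _)]; exact one_mem _
      · exact symmW (haw s')
      · rw [Set.mem_singleton_iff.1 hg', commutatorElement_self]; exact one_mem _
      · exact hWg _ hg0 _ hg'
    · exact symmW (hWg g' hg0' g hg)
  have hcl : ∀ g ∈ Subgroup.closure gens, ∀ g' ∈ Subgroup.closure gens, ⁅g, g'⁆ ∈ W := by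
    have step : ∀ g : Γ, (∀ g' ∈ gens, ⁅g, g'⁆ ∈ W) → ∀ g' ∈ Subgroup.closure gens, ⁅g, g'⁆ ∈ W := by
      intro g h g' hg'
      induction hg' using Subgroup.closure_induction with
      | one => simp [one_mem]
      | mem x hx => exact h x hx
      | mul u v hu _ iu iv =>
        rw [show ⁅g, u * v⁆ = ⁅g, u⁆ * (u * ⁅g, v⁆ * u⁻¹) by simp only [commutatorElement_def]; group]
        exact mul_mem iu (hNcl u hu _ iv)
      | inv u hu iu =>
        rw [show ⁅g, u⁻¹⁆ = u⁻¹ * ⁅g, u⁆⁻¹ * u⁻¹⁻¹ by simp only [commutatorElement_def]; group]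
        exact hNcl _ (inv_mem hu) _ (inv_mem iu)
    intro g hg g' hg'
    exact step g (fun y hy => symmW (step y (hgg y hy) g hg)) g' hg'
  have hk_mem : ∀ g, π g = 1 → g ∈ Subgroup.closure gens := fun g hg => by
    rw [hgens]; exact Subgroup.subset_closure (Or.inl hg)
  have hw_mem : ∀ g ∈ W, g ∈ Subgroup.closure gens := fun g hg => by
    rw [hgens]; exact Subgroup.subset_closure (Or.inr (Or.inr (Or.inr hg)))
  have h3 : ∀ g, π g ∈ Ug σ 3 → g ∈ Subgroup.closure gens := by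
    intro g hg
    obtain ⟨w, hw, e⟩ := hdec _ hg
    have h := mul_mem (hw_mem w (hle hw)) (hk_mem (w⁻¹ * g) (by rw [map_mul, map_inv, e, inv_mul_cancel]))
    rwa [mul_inv_cancel_left] at h
  have h2 : ∀ g, π g ∈ Ug σ 2 → g ∈ Subgroup.closure gens := by
    intro g hg
    obtain ⟨y, -, r, hr, e⟩ := b2.split hg
    have h := mul_mem (hw_mem _ (bW y)) (h3 ((hb y)⁻¹ * g) (by
      rw [map_mul, map_inv, pb, e, inv_mul_cancel_left]; exact hr))
    rwa [mul_inv_cancel_left] at h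
  have h1 : ∀ g, π g ∈ Ug σ 1 → g ∈ Subgroup.closure gens := by
    intro g hg
    obtain ⟨t, ht, r, hr, e⟩ := b1.split hg
    rcases fixed_two hσ ht with rfl | rfl
    · rw [b1.map_zero, one_mul] at e
      exact h2 g (by rw [e]; exact hr)
    · have h := mul_mem (show be ∈ Subgroup.closure gens by
          rw [hgens]; exact Subgroup.subset_closure (Or.inr (Or.inr (Or.inl rfl)))) (h2 (be⁻¹ * g) (by
        rw [map_mul, map_inv, pbe, e, inv_mul_cancel_left]; exact hr))
      rwa [mul_inv_cancel_left] at h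
  have h0 : ∀ g, π g ∈ Ug σ 0 → g ∈ Subgroup.closure gens := by
    intro g hg
    obtain ⟨s, -, r, hr, e⟩ := b0.split hg
    have h := mul_mem (show ha s ∈ Subgroup.closure gens by
        rw [hgens]; exact Subgroup.subset_closure (Or.inr (Or.inl ⟨s, rfl⟩))) (h1 ((ha s)⁻¹ * g) (by
      rw [map_mul, map_inv, pa, e, inv_mul_cancel_left]; exact hr))
    rwa [mul_inv_cancel_left] at h
  intro x hx hk
  rw [← Ug_zero] at hx
  exact hWker x ((Subgroup.commutator_le.2 fun g hg g' hg' =>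
    hcl g (h0 g hg) g' (h0 g' hg') : _ ≤ W) hx) hk

end CfsgLib.Chev.D43Mult
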