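import Cfsg.Agent.Lib.Chev.D43Mult.Chain

/-!
Commutators of orbit elements of the triality twisted group over eight elements.
-/

set_option autoImplicit false
set_option maxRecDepth 100000

namespace CfsgLib.Chev.D43Mult

open Cfsg.Lie Matrix CfsgLib.Chev CfsgLib.Chev.D43 CfsgLib.Chev.OrdList CfsgLib.Schur
open CfsgLib.Schur.LiftComm
open scoped commutatorElement

variable {K : Type*} [Field K] [Fintype K] {σ : K →+* K}

local notation "g₄" => stdD4.good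

theorem char_two (hK : Fintype.card K = 2 ^ 3) : CharP K 2 := charP_of_card_eq_prime_pow hK

theorem fixed_two (hσ : ∀ x, σ x = x ^ 2) {t : K} (ht : σ t = t) : t = 0 ∨ t = 1 := by
  rw [hσ, sq] at ht
  rcases eq_or_ne t 0 with h | h
  · exact Or.inl h
  · exact Or.inr (mul_eq_left₀ h |>.1 ht)

theorem long_val (hσ : ∀ x, σ x = x ^ 2) {r : ℕ} (hc : oneChk r [] = true) {y : ↥(tw σ).fix}
    (hy : (y : GL chevD4.Idx K) ∈ UL K g₄ [r]) : y = 1 ∨ y = mO σ r 1 := by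
  obtain ⟨t, ht, e⟩ := one_eq hc hy y.2
  rcases fixed_two hσ ht with rfl | rfl
  · exact Or.inl (Subtype.ext (by rw [e, xG_zero]; rfl))
  · exact Or.inr (Subtype.ext (by rw [e, mO_val hc (map_one σ)]))

theorem long_ne {r : ℕ} (hc : oneChk r [] = true) : mO σ r (1 : K) ≠ 1 := by
  intro e
  have h := congrArg Subtype.val e
  rw [mO_val hc (map_one σ)] at h
  simp only [oneChk, Bool.and_eq_true, decide_eq_true_eq] at hc
  exact one_ne_zero (eq_zero_of_mem stdD4 hc.1.2 hc.1.1.1.2.2.2.1 hc.1.1.1.2.2.2.2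
    (show xG g₄ r (1 : K) ∈ UL K g₄ [] by rw [h]; exact one_mem _) (fun _ h => absurd h List.not_mem_nil))

theorem pair_sign : ∀ p ∈ [((18 : ℕ), (14 : ℕ), (19 : ℕ)), (19, 17, 23), (16, 20, 23), (15, 21, 23)],
    p.1 < chevD4.nroots ∧ p.2.1 < chevD4.nroots ∧ p.2.1 ≠ p.1 ∧ p.2.1 ≠ auxD4.neg p.1 ∧
      (auxD4.terms p.1 p.2.1 = [(p.2.2, 1, 1, 1)] ∨ auxD4.terms p.1 p.2.1 = [(p.2.2, -1, 1, 1)]) := by
  decide +kernel

omit [Fintype K] in
/-- the commutator of two root elements with one term in characteristic two -/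
theorem comm_root_two [CharP K 2] {r s w : ℕ}
    (h : (r, s, w) ∈ [((18 : ℕ), (14 : ℕ), (19 : ℕ)), (19, 17, 23), (16, 20, 23), (15, 21, 23)]) (a b : K) :
    ⁅xG g₄ r a, xG g₄ s b⁆ = xG g₄ s b * xG g₄ w (a * b) * (xG g₄ s b)⁻¹ := by
  obtain ⟨hr, hs, hne, hnn, hT⟩ := pair_sign _ h
  have e := KnownB.ChevField.comm_word stdD4 hr hs hne hnn a b
  have ew : xG g₄ s b * xG g₄ r a = xG g₄ r a * xG g₄ s b * xG g₄ w (a * b) := by
    rcases hT with hT | hT <;> rw [hT] at e <;>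
      simpa [CharTwo.neg_eq, mul_comm a b, mul_assoc] using e
  have ei : ∀ (r : ℕ) (a : K), (xG g₄ r a)⁻¹ = xG g₄ r a := fun r a => by rw [xG_inv, CharTwo.neg_eq]
  have hs2 : xG g₄ s b * xG g₄ s b = 1 := by rw [xG_add, CharTwo.add_self_eq_zero, xG_zero]
  have hr2 : xG g₄ r a * xG g₄ r a = 1 := by rw [xG_add, CharTwo.add_self_eq_zero, xG_zero]
  rw [commutatorElement_def, ei r a, ei s b, mul_assoc _ (xG g₄ r a) (xG g₄ s b)]
  rw [show xG g₄ r a * xG g₄ s b * (xG g₄ r a * xG g₄ s b) =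
      xG g₄ r a * (xG g₄ s b * xG g₄ r a) * xG g₄ s b by group, ew,
    show xG g₄ r a * (xG g₄ r a * xG g₄ s b * xG g₄ w (a * b)) * xG g₄ s b =
      (xG g₄ r a * xG g₄ r a) * xG g₄ s b * xG g₄ w (a * b) * xG g₄ s b by group, hr2, one_mul]

theorem head_chk : commChk chevD4 auxD4 [13, 12] [14] [16, 15, 17, 20, 21, 22, 23] = true ∧
    ([18, 14, 19].all fun r => [16, 15, 17, 20, 21, 22, 23].all fun s =>
      pairChk chevD4 auxD4 r s [16, 15, 17, 20, 21, 22, 23]) = true ∧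
    pairChk chevD4 auxD4 14 19 [16, 15, 17, 20, 21, 22, 23] = true := by
  decide +kernel

omit [Fintype K] in
theorem conj_tail {r : ℕ} (hr : r ∈ [18, 14, 19]) (t : K) {z : GL chevD4.Idx K}
    (hz : z ∈ UL K g₄ [16, 15, 17, 20, 21, 22, 23]) :
    xG g₄ r t * z * (xG g₄ r t)⁻¹ ∈ UL K g₄ [16, 15, 17, 20, 21, 22, 23] := by
  have h := head_chk.2.1
  simp only [List.all_eq_true] at h
  refine conj_UL (fun s hs u => ?_) hz
  obtain ⟨w, hw, e⟩ := pair_conj stdD4 (h r hr s hs) t u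
  rw [e]
  exact mul_mem (xG_mem_UL g₄ hs u) hw

omit [Fintype K] in
/-- the first coefficient of the commutator with the long simple root -/
theorem comm_beta_head [CharP K 2] (s : K) :
    ∃ z ∈ UL K g₄ [16, 15, 17, 20, 21, 22, 23],
      ⁅M σ oA s, xG g₄ 14 (1 : K)⁆ = xG g₄ 19 s * z := by
  obtain ⟨v, hv, e⟩ := tri_M (σ := σ) chk_A.2 s
  set L : List ℕ := [16, 15, 17, 20, 21, 22, 23]
  have h1 : ⁅v, xG g₄ 14 (1 : K)⁆ ∈ UL K g₄ L :=
    comm_UL stdD4 head_chk.1 hv (xG_mem_UL g₄ List.mem_cons_self _)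
  have h2 := conj_tail (by simp : 18 ∈ [18, 14, 19]) s h1
  obtain ⟨w, hw, ew⟩ := pair_conj stdD4 head_chk.2.2 (1 : K) s
  have h3 : ⁅xG g₄ 18 s, xG g₄ 14 (1 : K)⁆ = xG g₄ 19 s * w := by
    rw [comm_root_two (w := 19) (by simp), mul_one, ew]
  refine ⟨(xG g₄ 19 s)⁻¹ * (xG g₄ 18 s * ⁅v, xG g₄ 14 (1 : K)⁆ * (xG g₄ 18 s)⁻¹) * xG g₄ 19 s * w, ?_, ?_⟩
  · refine mul_mem ?_ hw
    have h4 := conj_tail (by simp : 19 ∈ [18, 14, 19]) (-s) h2
    rwa [← xG_inv, inv_inv] at h4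
  · rw [show M σ oA s = xG g₄ 18 s * v from e,
      show ⁅xG g₄ 18 s * v, xG g₄ 14 (1 : K)⁆ =
        xG g₄ 18 s * ⁅v, xG g₄ 14 (1 : K)⁆ * (xG g₄ 18 s)⁻¹ * ⁅xG g₄ 18 s, xG g₄ 14 (1 : K)⁆ by
        simp only [commutatorElement_def]; group, h3]
    group

theorem bd_chk : (∀ r ∈ [19, 16, 15, 17, 20, 21], commPair chevD4 auxD4 r 23 = true) ∧
    commPair chevD4 auxD4 19 20 = true ∧ commPair chevD4 auxD4 19 21 = true ∧
    commPair chevD4 auxD4 16 17 = true ∧ commPair chevD4 auxD4 16 21 = true ∧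
    commPair chevD4 auxD4 15 17 = true ∧ commPair chevD4 auxD4 15 20 = true := by
  decide +kernel

omit [Fintype K] in
/-- the commutator of the unit elements of two short orbits -/
theorem comm_bd_one [CharP K 2] : ⁅M σ oB (1 : K), M σ oD (1 : K)⁆ = xG g₄ 23 (1 : K) := by
  obtain ⟨hz, h1, h2, h3, h4, h5, h6⟩ := bd_chk
  have eB : M σ oB (1 : K) = xG g₄ 19 1 * (xG g₄ 16 1 * xG g₄ 15 1) := by
    simp [M, oB, TwSub.orbE, CharTwo.neg_eq]
  have eD : M σ oD (1 : K) = xG g₄ 17 1 * (xG g₄ 20 1 * xG g₄ 21 1) := by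
    simp [M, oD, TwSub.orbE, CharTwo.neg_eq]
  have cz : ∀ r ∈ [19, 16, 15, 17, 20, 21], ∀ a b : K, Commute (xG g₄ r a) (xG g₄ 23 b) :=
    fun r hr a b => CfsgLib.Chev.commute_xG stdD4 (hz r hr) a b
  have key : ∀ {r s : ℕ}, (r, s, (23 : ℕ)) ∈ [((18 : ℕ), (14 : ℕ), (19 : ℕ)), (19, 17, 23), (16, 20, 23), (15, 21, 23)] →
      s ∈ [19, 16, 15, 17, 20, 21] →
      ⁅xG g₄ r (1 : K), xG g₄ s (1 : K)⁆ = xG g₄ 23 (1 : K) := fun h hs => by
    rw [comm_root_two h, mul_one, (cz _ hs 1 1).eq, mul_inv_cancel_right]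
  rw [eB, eD]
  have hzero : ∀ {r s : ℕ}, commPair chevD4 auxD4 r s = true →
      ⁅xG g₄ r (1 : K), xG g₄ s (1 : K)⁆ = 1 := fun h =>
    commutatorElement_eq_one_iff_commute.2 (CfsgLib.Chev.commute_xG stdD4 h 1 1)
  set z := xG g₄ 23 (1 : K)
  have right : ∀ (x a b : GL chevD4.Idx K), ⁅x, a * b⁆ = ⁅x, a⁆ * (a * ⁅x, b⁆ * a⁻¹) := fun x a b => by
    simp only [commutatorElement_def]; group
  have left : ∀ (a b y : GL chevD4.Idx K), ⁅a * b, y⁆ = a * ⁅b, y⁆ * a⁻¹ * ⁅a, y⁆ := fun a b y => by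
    simp only [commutatorElement_def]; group
  have c17 := (cz 17 (by simp) 1 1).eq
  have c20 := (cz 20 (by simp) 1 1).eq
  have c19 := (cz 19 (by simp) 1 1).eq
  have c16 := (cz 16 (by simp) 1 1).eq
  have eA : ⁅xG g₄ 19 (1 : K), xG g₄ 17 1 * (xG g₄ 20 1 * xG g₄ 21 1)⁆ = z := by
    rw [right, right, key (by simp) (by simp), hzero h1, hzero h2]; group
  have eB' : ⁅xG g₄ 16 (1 : K), xG g₄ 17 1 * (xG g₄ 20 1 * xG g₄ 21 1)⁆ = z := by
    rw [right, right, hzero h3, key (by simp) (by simp), hzero h4]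
    simp only [mul_one, mul_inv_cancel, one_mul]
    rw [c17, mul_inv_cancel_right]
  have eC : ⁅xG g₄ 15 (1 : K), xG g₄ 17 1 * (xG g₄ 20 1 * xG g₄ 21 1)⁆ = z := by
    rw [right, right, hzero h5, hzero h6, key (by simp) (by simp)]
    simp only [one_mul]
    rw [c20, mul_inv_cancel_right, c17, mul_inv_cancel_right]
  rw [left, left, eA, eB', eC, c16, mul_inv_cancel_right,
    show z * z = 1 by rw [xG_add, CharTwo.add_self_eq_zero, xG_zero]]
  group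

end CfsgLib.Chev.D43Mult
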